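import Cfsg.Agent.Lib.ClassSize.TwoRegular.ManyPrimes
import Cfsg.Agent.Lib.ClassSize.SylowCentralizer

/-!
# Groups with two `p`-regular class sizes
-/

set_option autoImplicit false

namespace CfsgLib.ClassSize.TwoRegular

open Subgroup

variable {G : Type*} [Group G] [Finite G] {p : ℕ}

theorem carrier_ncard (x : G) : (ConjClasses.mk x).carrier.ncard = (cent x).index := by
  rw [← ncard_setOf_isConj x]
  congr 1

/-- A non-central `p`-regular element gives a non-central element of prime power order. -/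
theorem exists_witness {x : G} (hp : p.Prime) (hx : (orderOf x).Coprime p) (hxZ : x ∉ center G) :
    ∃ (q : ℕ) (u : G) (k : ℕ), q.Prime ∧ q ≠ p ∧ u ∉ center G ∧ u ^ q ^ k = 1 := by
  by_contra hno
  push Not at hno
  refine hxZ (CfsgLib.FGStruct.Dedekind.mem_of_primePow (S := (center G).subgroupOf (zpowers x)) ?_
    ⟨x, mem_zpowers x⟩ : _)
  rintro ⟨y, hy⟩ ⟨q, k, hq, hk⟩
  rw [Subgroup.orderOf_mk] at hk
  refine mem_subgroupOf.2 (by_contra fun hyZ => hno q y k hq ?_ hyZ (by rw [← hk]; exact pow_orderOf_eq_one y))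
  rintro rfl
  have h1 : (orderOf y).Coprime q := Nat.Coprime.coprime_dvd_left (orderOf_dvd_of_mem_zpowers hy) hx
  rcases k with _ | k
  · exact hyZ (by rw [pow_zero, orderOf_eq_one_iff] at hk; simp [hk])
  · rw [hk, Nat.coprime_pow_left_iff k.succ_pos, Nat.coprime_self] at h1
    exact hq.ne_one h1

/-- Only one prime other than `p` occurs among the non-central elements. -/
theorem product_structure (hp : p.Prime) {q : ℕ} (hq : q.Prime) (hqp : q ≠ p)
    (hcen : ∀ r : ℕ, r.Prime → r ≠ p → r ≠ q → ∀ (u : G) (k : ℕ), u ^ r ^ k = 1 → u ∈ center G) :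
    ∃ (P : Sylow p G) (Q : Sylow q G) (A : Subgroup G), A ≤ center G ∧
        Nat.card ↥((P : Subgroup G) ⊔ (Q : Subgroup G)) = Nat.card P * Nat.card Q ∧
        ((P : Subgroup G) ⊔ (Q : Subgroup G)).Normal ∧
        ((P : Subgroup G) ⊔ (Q : Subgroup G)) ⊓ A = ⊥ ∧ ((P : Subgroup G) ⊔ (Q : Subgroup G)) ⊔ A = ⊤ := by
  haveI := Fact.mk hp
  haveI := Fact.mk hq
  let A : Subgroup G :=
    { carrier := {z | z ∈ center G ∧ (orderOf z).Coprime (p * q)}
      one_mem' := ⟨one_mem _, by simp⟩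
      mul_mem' := fun {a b} ha hb => ⟨mul_mem ha.1 hb.1, Nat.Coprime.coprime_dvd_left
        (Commute.orderOf_mul_dvd_mul_orderOf (mem_center_iff.1 hb.1 a)) (Nat.Coprime.mul_left ha.2 hb.2)⟩
      inv_mem' := fun {a} ha => ⟨inv_mem ha.1, by rw [orderOf_inv]; exact ha.2⟩ }
  have hAZ : A ≤ center G := fun z hz => hz.1
  haveI : A.Normal := ⟨fun z hz g => by rw [mem_center_iff.1 hz.1 g, mul_inv_cancel_right]; exact hz⟩
  have hA : ∀ s : ℕ, s.Prime → s ∣ Nat.card A → s ≠ p ∧ s ≠ q := by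
    intro s hs hd
    haveI := Fact.mk hs
    obtain ⟨⟨z, hz⟩, hzs⟩ := exists_prime_orderOf_dvd_card' s hd
    rw [Subgroup.orderOf_mk] at hzs
    have h1 := hz.2
    rw [hzs] at h1
    constructor <;> rintro rfl
    · exact hs.ne_one ((Nat.coprime_self _).1 (Nat.Coprime.coprime_dvd_right (dvd_mul_right _ _) h1))
    · exact hs.ne_one ((Nat.coprime_self _).1 (Nat.Coprime.coprime_dvd_right (dvd_mul_left _ _) h1))
  have hidx : ∀ s : ℕ, s.Prime → s ∣ A.index → s = p ∨ s = q := by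
    intro s hs hd
    by_contra hne
    push Not at hne
    haveI := Fact.mk hs
    obtain ⟨S⟩ := (inferInstance : Nonempty (Sylow s G))
    refine S.not_dvd_index (hd.trans (index_dvd_of_le fun u hu => ?_))
    obtain ⟨k, hk⟩ := S.2 ⟨u, hu⟩
    have hk' : u ^ s ^ k = 1 := congrArg Subtype.val hk
    exact ⟨hcen s hs hne.1 hne.2 u k hk', Nat.Coprime.coprime_dvd_left (orderOf_dvd_of_pow_eq_one hk')
      (Nat.Coprime.pow_left k (Nat.Coprime.mul_right ((Nat.coprime_primes hs hp).2 hne.1)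
        ((Nat.coprime_primes hs hq).2 hne.2)))⟩
  have hco : (Nat.card A).Coprime A.index := Nat.coprime_of_dvd fun s hs h1 h2 => by
    rcases hidx s hs h2 with h | h
    · exact (hA s hs h1).1 h
    · exact (hA s hs h1).2 h
  obtain ⟨K, hK⟩ := exists_right_complement'_of_coprime (N := A) hco
  have hKcard : Nat.card K = A.index := hK.symm.index_eq_card.symm
  haveI hKn : K.Normal := ⟨fun v hv w => by
    obtain ⟨⟨⟨a, ha⟩, ⟨b, hb⟩⟩, rfl⟩ := hK.2 w
    show a * b * v * (a * b)⁻¹ ∈ K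
    rw [show a * b * v * (a * b)⁻¹ = a * (b * v * b⁻¹) * a⁻¹ by group, ← mem_center_iff.1 (hAZ ha) _,
      mul_inv_cancel_right]
    exact mul_mem (mul_mem hb hv) (inv_mem hb)⟩
  have hle : ∀ {s : ℕ}, (s = p ∨ s = q) → ∀ (S : Sylow s G), (S : Subgroup G) ≤ K := by
    intro s hs S u hu
    obtain ⟨k, hk⟩ := S.2 ⟨u, hu⟩
    have hk' : u ^ s ^ k = 1 := congrArg Subtype.val hk
    refine (QuotientGroup.eq_one_iff u).1 (orderOf_eq_one_iff.1 (Nat.eq_one_of_dvd_coprimes ?_
      ((orderOf_map_dvd (QuotientGroup.mk' K) u).trans (orderOf_dvd_of_pow_eq_one hk'))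
      (show _ ∣ Nat.card A by rw [← hK.index_eq_card, index_eq_card]; exact _root_.orderOf_dvd_natCard _)))
    refine Nat.Coprime.pow_left k ((Nat.Prime.coprime_iff_not_dvd ?_).2 fun hd => ?_)
    · rcases hs with rfl | rfl <;> assumption
    · rcases hs with rfl | rfl
      · exact (hA _ hp hd).1 rfl
      · exact (hA _ hq hd).2 rfl
  obtain ⟨P⟩ := (inferInstance : Nonempty (Sylow p G))
  obtain ⟨Q⟩ := (inferInstance : Nonempty (Sylow q G))
  have hPQ : (P : Subgroup G) ⊔ (Q : Subgroup G) ≤ K := sup_le (hle (Or.inl rfl) P) (hle (Or.inr rfl) Q)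
  have hcop : (Nat.card P).Coprime (Nat.card Q) := by
    obtain ⟨i, hi⟩ := IsPGroup.iff_card.1 P.2
    obtain ⟨j, hj⟩ := IsPGroup.iff_card.1 Q.2
    rw [hi, hj]; exact Nat.Coprime.pow i j ((Nat.coprime_primes hp hq).2 hqp.symm)
  have hdvd : Nat.card P * Nat.card Q ∣ Nat.card ((P : Subgroup G) ⊔ (Q : Subgroup G) : Subgroup G) :=
    hcop.mul_dvd_of_dvd_of_dvd (card_dvd_of_le le_sup_left) (card_dvd_of_le le_sup_right)
  have hKdvd : Nat.card K ∣ Nat.card P * Nat.card Q := by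
    have hnd : ∀ {s : ℕ} [Fact s.Prime] (S : Sylow s G), (S : Subgroup G) ≤ K →
        ¬ s ∣ (Nat.card K / Nat.card S) := fun {s} _ S hS hd => by
      obtain ⟨m, hm⟩ := card_dvd_of_le hS
      rw [hm, Nat.mul_div_cancel_left _ Nat.card_pos] at hd
      refine S.not_dvd_index ?_
      have h1 := (S : Subgroup G).card_mul_index
      rw [← K.card_mul_index, hm, mul_assoc] at h1
      rw [Nat.eq_of_mul_eq_mul_left Nat.card_pos h1]
      exact hd.mul_right _
    obtain ⟨m, hm⟩ := hdvd.trans (card_dvd_of_le hPQ)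
    rw [hm]
    have hm1 : m = 1 := by
      by_contra h
      obtain ⟨s, hs, hsm⟩ := Nat.exists_prime_and_dvd h
      rcases hidx s hs (hKcard ▸ hm ▸ hsm.mul_left _) with rfl | rfl
      · refine hnd P (hle (Or.inl rfl) P) ?_
        rw [hm, mul_assoc, Nat.mul_div_cancel_left _ Nat.card_pos]; exact hsm.mul_left _
      · refine hnd Q (hle (Or.inr rfl) Q) ?_
        rw [hm, mul_comm (Nat.card P), mul_assoc, Nat.mul_div_cancel_left _ Nat.card_pos]; exact hsm.mul_left _
    rw [hm1, mul_one]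
  have heq : (P : Subgroup G) ⊔ (Q : Subgroup G) = K :=
    eq_of_le_of_card_ge hPQ (Nat.le_of_dvd Nat.card_pos (hKdvd.trans hdvd))
  refine ⟨P, Q, A, hAZ, ?_, ?_, ?_, ?_⟩
  · exact Nat.dvd_antisymm ((card_dvd_of_le hPQ).trans hKdvd) hdvd
  · rw [heq]; exact hKn
  · rw [heq, inf_comm]; exact hK.disjoint.eq_bot
  · rw [heq, sup_comm]; exact hK.sup_eq_top

theorem main (hp : p.Prime)
    (h2 : Set.ncard (Set.range fun x : {x : G // (orderOf x).Coprime p} => (ConjClasses.mk (x : G)).carrier.ncard) = 2) :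
    (∃ H : Subgroup G, IsMulCommutative H ∧ ¬ p ∣ Nat.card H ∧ ∃ k : ℕ, H.index = p ^ k) ∨
    (∃ (q : ℕ) (_ : Fact q.Prime) (P : Sylow p G) (Q : Sylow q G) (A : Subgroup G), q ≠ p ∧
        A ≤ Subgroup.center G ∧ Nat.card ↥((P : Subgroup G) ⊔ (Q : Subgroup G)) = Nat.card P * Nat.card Q ∧
        ((P : Subgroup G) ⊔ (Q : Subgroup G)).Normal ∧
        ((P : Subgroup G) ⊔ (Q : Subgroup G)) ⊓ A = ⊥ ∧ ((P : Subgroup G) ⊔ (Q : Subgroup G)) ⊔ A = ⊤) := by
  simp only [carrier_ncard] at h2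
  obtain ⟨a, b, hab, hrange⟩ := Set.ncard_eq_two.1 h2
  have h1 : (1 : ℕ) ∈ ({a, b} : Set ℕ) := by
    rw [← hrange]
    exact ⟨⟨1, by simp⟩, index_eq_one.2 (mem_center_iff_cent.1 (one_mem (center G)))⟩
  have hne : ∀ x : G, x ∉ center G → (cent x).index ≠ 1 := fun x hx h =>
    hx (mem_center_iff_cent.2 (index_eq_one.1 h))
  have hin : ∀ x : G, (orderOf x).Coprime p → (cent x).index = a ∨ (cent x).index = b := fun x hx => by
    have : (cent x).index ∈ ({a, b} : Set ℕ) := by rw [← hrange]; exact ⟨⟨x, hx⟩, rfl⟩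
    simpa using this
  have hcard : ∀ x y : G, (orderOf x).Coprime p → (orderOf y).Coprime p → x ∉ center G → y ∉ center G →
      Nat.card (cent x) = Nat.card (cent y) := by
    intro x y hx hy hxZ hyZ
    have hi : (cent x).index = (cent y).index := by
      have := hin x hx; have := hin y hy; have := hne x hxZ; have := hne y hyZ
      rcases h1 with h1 | h1
      · omega
      · have h1' : 1 = b := h1
        omega
    have e := (cent x).card_mul_index
    rw [← (cent y).card_mul_index, hi] at e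
    exact Nat.eq_of_mul_eq_mul_right (Nat.pos_of_ne_zero index_ne_zero_of_finite) e
  obtain ⟨x, hx, hxZ⟩ : ∃ x : G, (orderOf x).Coprime p ∧ x ∉ center G := by
    by_contra hno
    push Not at hno
    have hsub : ({a, b} : Set ℕ) ⊆ {1} := by
      rw [← hrange]
      rintro _ ⟨⟨y, hy⟩, rfl⟩
      exact index_eq_one.2 (mem_center_iff_cent.1 (hno y hy))
    exact hab ((hsub (Set.mem_insert a {b})).trans (hsub (Set.mem_insert_of_mem a rfl)).symm)
  by_cases htwo : ∀ q : ℕ, ∃ r : ℕ, r.Prime ∧ r ≠ p ∧ r ≠ q ∧ ∃ (u : G) (k : ℕ), u ∉ center G ∧ u ^ r ^ k = 1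
  · left
    have hyp : Hyp G p := ⟨hp, hcard, htwo⟩
    have hnone : ∀ s : ℕ, ¬ Div G p s := fun s hs => by
      by_cases honly : ∀ t, Div G p t → t = s
      · exact false_of_one_prime hyp hs honly
      · push Not at honly
        obtain ⟨t, ht, hts⟩ := honly
        exact false_of_many_primes hyp ht hs hts
    refine ⟨hall p x, ⟨⟨fun a b => Subtype.ext (commute_hall a.2 b.2).eq⟩⟩, fun hd => ?_, ?_⟩
    · haveI := Fact.mk hp
      obtain ⟨⟨y, hy⟩, hyp'⟩ := exists_prime_orderOf_dvd_card' p hd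
      rw [Subgroup.orderOf_mk] at hyp'
      have h3 := hy.2.1
      rw [hyp', Nat.coprime_self] at h3
      exact hp.ne_one h3
    · refine ⟨_, Nat.eq_prime_pow_of_unique_prime_dvd index_ne_zero_of_finite fun {s} hs hsd => ?_⟩
      by_contra hsp
      exact not_dvd_index_part hyp hs hsp hx hxZ (fun hd => hnone s (Div.of_dvd hyp hs hsp hx hxZ hd))
        (hsd.trans (index_dvd_of_le (part_le_hall p s x)))
  · right
    push Not at htwo
    obtain ⟨q0, hq0⟩ := htwo
    obtain ⟨q, u, k, hq, hqp, huZ, hk⟩ := exists_witness hp hx hxZ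
    have hqq : q = q0 := by
      by_contra hne
      exact hq0 q hq hqp hne u k huZ hk
    subst hqq
    obtain ⟨P, Q, A, h⟩ := product_structure hp hq hqp fun r hr hrp hrq v j hv => by
      by_contra hvZ
      exact hq0 r hr hrp hrq v j hvZ hv
    exact ⟨q, ⟨hq⟩, P, Q, A, hqp, h⟩

end CfsgLib.ClassSize.TwoRegular
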