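import Cfsg.Agent.Lib.ClassSize.TwoRegular.Special

/-!
# Pairs of elements commuting modulo the centre, each outside the centraliser of the other
-/

set_option autoImplicit false

namespace CfsgLib.ClassSize.TwoRegular

open Subgroup

variable {G : Type*} [Group G] [Finite G] {p : ℕ}

/-- Two `q`-elements commuting modulo the centre but not in `G`. -/
structure Frame (p q : ℕ) (x g : G) : Prop where
  reg : (orderOf x).Coprime p
  not_center : x ∉ center G
  mem_part : x ∈ part p q x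
  out : Out p q x g
  out' : Out p q g x
  comm : g * x * g⁻¹ * x⁻¹ ∈ center G
  pow_left : x ^ q ∈ center G
  pow_right : g ^ q ∈ center G

theorem exists_frame (hyp : Hyp G p) {q : ℕ} (hq : Div G p q) {y : G} (hy : (orderOf y).Coprime p)
    (hyZ : y ∉ center G) : ∃ x g : G, cent x = cent y ∧ Frame p q x g := by
  obtain ⟨-, -, -, g, -, hg⟩ := exists_sylow hyp hq hy hyZ
  obtain ⟨x, hx, hxZ, hz⟩ := hg.exists_fixed hyp hq hy hyZ
  have hxreg := hx.1.2.1
  have hc := cent_eq_of_mem_hall hyp hy hyZ hx.1 hxZ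
  have hgx : Out p q x g := ⟨hg.pow, by rw [← hall_eq_of_cent_eq hc]; exact hg.mem,
    by rw [← hc]; exact hg.not_mem⟩
  have hxx : x ∈ part p q x := by rw [← part_eq_of_cent_eq q hc]; exact hx
  obtain ⟨h1, h2, -⟩ := pow_prime_mem hyp hq.prime hq.ne hx.2 hxZ hg.pow hgx.not_mem hz
  exact ⟨x, g, hc.symm, hxreg, hxZ, hxx, hgx, hg.symm hyp hq hy hyZ hx hxZ hz, hz, h2, h1⟩

theorem Frame.symm (hyp : Hyp G p) {q : ℕ} (hq : Div G p q) {x g : G} (F : Frame p q x g) : Frame p q g x := by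
  refine ⟨F.out.coprime hyp hq, F.out.not_center, ?_, F.out', F.out, ?_, F.pow_right, F.pow_left⟩
  · obtain ⟨k, hk⟩ := F.out.pow
    exact mem_part_of hyp hq.prime hq.ne (F.out.coprime hyp hq) F.out.not_center hk (mem_cent.2 (Commute.refl g))
  · have := inv_mem F.comm
    rwa [show (g * x * g⁻¹ * x⁻¹)⁻¹ = x * g * x⁻¹ * g⁻¹ by group] at this

/-- The part at `q` is larger than cyclic of order `q` modulo the centre. -/
def Big (p q : ℕ) (x : G) : Prop := q * Nat.card (part p q x ⊓ center G : Subgroup G) < Nat.card (part p q x)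

theorem inf_center_eq (hyp : Hyp G p) {q : ℕ} (hq : q.Prime) (hqp : q ≠ p) {x y : G}
    (hx : (orderOf x).Coprime p) (hxZ : x ∉ center G) :
    part p q y ⊓ center G ≤ part p q x ⊓ center G := by
  rintro a ⟨⟨-, k, hk⟩, haZ⟩
  exact ⟨mem_part_of hyp hq hqp hx hxZ hk (mem_cent.2 (mem_center_iff.1 haZ x).symm), haZ⟩

theorem big_iff (hyp : Hyp G p) {q : ℕ} (hq : q.Prime) (hqp : q ≠ p) {x y : G}
    (hx : (orderOf x).Coprime p) (hxZ : x ∉ center G) (hy : (orderOf y).Coprime p) (hyZ : y ∉ center G) :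
    Big p q x ↔ Big p q y := by
  rw [Big, Big, card_part_eq hyp hq hqp hx hxZ hy hyZ,
    le_antisymm (inf_center_eq hyp hq hqp (x := y) (y := x) hy hyZ) (inf_center_eq hyp hq hqp hx hxZ)]

/-- A part covered by the powers of one element modulo the centre is not big. -/
theorem not_big_of_zpowers {q : ℕ} (hq : q.Prime) {x a : G} (ha : a ∈ part p q x) (haq : a ^ q ∈ center G)
    (h : ∀ b ∈ part p q x, ∃ i : ℤ, (a ^ i)⁻¹ * b ∈ center G) : ¬ Big p q x := by
  unfold Big
  rw [not_lt]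
  set A := part p q x
  have hsurj : ∀ b : A, ∃ f : Fin q × (A ⊓ center G : Subgroup G), (b : G) = a ^ (f.1 : ℕ) * (f.2 : G) := by
    intro b
    obtain ⟨i, hi⟩ := h b b.2
    set j := (i % (q : ℤ)).toNat with hj
    have hq0 : (0 : ℤ) < q := by exact_mod_cast hq.pos
    have hjlt : j < q := by
      have := Int.emod_lt_of_pos i hq0
      omega
    have hji : ((j : ℤ)) = i % (q : ℤ) := Int.toNat_of_nonneg (Int.emod_nonneg i hq0.ne')
    have hcen : (a ^ j)⁻¹ * (b : G) ∈ center G := by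
      have e : (a ^ j)⁻¹ * (b : G) = (a ^ (q : ℕ)) ^ (i / (q : ℤ)) * ((a ^ i)⁻¹ * b) := by
        rw [← mul_assoc, ← zpow_natCast a q, ← zpow_mul, ← zpow_neg, ← zpow_add, ← zpow_natCast a j, ← zpow_neg]
        congr 2
        rw [hji]
        have := Int.mul_ediv_add_emod i (q : ℤ)
        omega
      rw [e]; exact mul_mem (zpow_mem haq _) hi
    exact ⟨⟨⟨j, hjlt⟩, ⟨(a ^ j)⁻¹ * (b : G), mem_inf.2 ⟨A.mul_mem (A.inv_mem (A.pow_mem ha j)) b.2, hcen⟩⟩⟩,
      (mul_inv_cancel_left _ _).symm⟩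
  choose f hf using hsurj
  have := Nat.card_le_card_of_injective f fun b c e => Subtype.ext (by rw [hf b, hf c, e])
  rwa [Nat.card_prod, Nat.card_fin] at this

/-- In a part which is not big every non-central element generates modulo the centre. -/
theorem exists_zpow_of_not_big {q : ℕ} (hq : q.Prime) {x a b : G} (hbig : ¬ Big p q x) (ha : a ∈ part p q x)
    (haZ : a ∉ center G) (hb : b ∈ part p q x) : ∃ i : ℤ, (a ^ i)⁻¹ * b ∈ center G := by
  haveI := Fact.mk hq
  unfold Big at hbig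
  rw [not_lt] at hbig
  set A := part p q x
  set B := A ⊓ center G
  haveI : B.Normal := ⟨fun c hc g => by rw [mem_center_iff.1 hc.2 g, mul_inv_cancel_right]; exact hc⟩
  have hle : zpowers a ⊔ B ≤ A := sup_le (zpowers_le.2 ha) inf_le_left
  have hlt : B < zpowers a ⊔ B := lt_of_le_of_ne le_sup_right fun e =>
    haZ ((e.symm ▸ mem_sup_left (mem_zpowers a) : a ∈ B)).2
  have heq : zpowers a ⊔ B = A := by
    refine eq_of_le_of_card_ge hle (hbig.trans ?_)
    obtain ⟨i, hi⟩ := IsPGroup.iff_card.1 ((part_isPGroup p q x).to_le hle)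
    obtain ⟨j, hj⟩ := IsPGroup.iff_card.1 ((part_isPGroup p q x).to_le (inf_le_left : B ≤ A))
    have hl : Nat.card B < Nat.card (zpowers a ⊔ B : Subgroup G) :=
      (Nat.le_of_dvd Nat.card_pos (card_dvd_of_le hlt.le)).lt_of_ne fun e => hlt.ne (eq_of_le_of_card_ge hlt.le e.ge)
    rw [hi, hj] at hl ⊢
    rw [← pow_succ']
    exact Nat.pow_le_pow_right hq.pos ((Nat.pow_lt_pow_iff_right hq.one_lt).1 hl)
  rw [← heq, ← SetLike.mem_coe, mul_normal] at hb
  obtain ⟨_, ⟨i, rfl⟩, c, hc, rfl⟩ := hb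
  exact ⟨i, by rw [← mul_assoc, inv_mul_cancel, one_mul]; exact hc.2⟩

/-- An `r`-element acting non-trivially on a group of prime order `q`. -/
theorem dvd_sub_one_of_conj {H : Type*} [Group H] {q r k : ℕ} (hq : q.Prime) (hr : r.Prime) {a h : H}
    (ha : orderOf a = q) (hk : h ^ r ^ k = 1) (hmem : h * a * h⁻¹ ∈ zpowers a) (hne : h * a * h⁻¹ ≠ a) :
    r ∣ q - 1 := by
  haveI : Finite (zpowers a) := Nat.finite_of_card_ne_zero (by rw [Nat.card_zpowers, ha]; exact hq.ne_zero)
  have hN : h ∈ normalizer ((zpowers a : Subgroup H) : Set H) := by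
    rw [mem_normalizer_iff_map_conj_eq]
    refine eq_of_le_of_card_ge ?_ (le_of_eq ?_)
    · rw [MonoidHom.map_zpowers]; exact zpowers_le.2 (by simpa using hmem)
    · exact (card_map_of_injective (MulAut.conj h).injective).symm
  set φ := normalizerMonoidHom (zpowers a) ⟨h, hN⟩
  have h1 : φ ≠ 1 := fun e => hne (by
    have := congrArg Subtype.val (DFunLike.congr_fun e ⟨a, mem_zpowers a⟩)
    exact this)
  have h2 : φ ^ r ^ k = 1 := by
    rw [← map_pow]
    convert map_one (normalizerMonoidHom (zpowers a))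
    exact Subtype.ext hk
  obtain ⟨i, -, hi⟩ := (Nat.dvd_prime_pow hr).1 (orderOf_dvd_of_pow_eq_one h2)
  have hri : r ∣ orderOf φ := by
    rw [hi]
    refine dvd_pow_self r fun h0 => h1 (orderOf_eq_one_iff.1 ?_)
    rw [hi, h0, pow_zero]
  have hcard := IsCyclic.card_mulAut (zpowers a)
  rw [Nat.card_zpowers, ha, Nat.totient_prime hq] at hcard
  rw [← hcard]
  exact hri.trans (orderOf_dvd_natCard φ)

/-- The image of a non-central element whose `q`-th power is central. -/
theorem orderOf_mk_center {q : ℕ} [hq : Fact q.Prime] {a : G} (ha : a ∉ center G) (haq : a ^ q ∈ center G) :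
    orderOf (QuotientGroup.mk' (center G) a) = q :=
  orderOf_eq_prime (by rw [← map_pow]; exact (QuotientGroup.eq_one_iff _).2 haq)
    (fun e => ha ((QuotientGroup.eq_one_iff _).1 e))

/-- An outer element for another prime mapping a fixed point into the cyclic group it generates. -/
theorem dvd_sub_one_of_zpowers (hyp : Hyp G p) {q r : ℕ} (hq : Div G p q) (hr : Div G p r) (hqr : q ≠ r)
    {x a h : G} (hx : (orderOf x).Coprime p) (hxZ : x ∉ center G) (hh : Out p r x h) (ha : a ∈ part p q x)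
    (haZ : a ∉ center G) (haq : a ^ q ∈ center G) (hi : ∃ i : ℤ, (a ^ i)⁻¹ * (h * a * h⁻¹) ∈ center G) :
    r ∣ q - 1 := by
  haveI := Fact.mk hq.prime
  set π := QuotientGroup.mk' (center G)
  obtain ⟨k, hk⟩ := hh.pow
  obtain ⟨i, hi⟩ := hi
  refine dvd_sub_one_of_conj hq.prime hr.prime (a := π a) (h := π h) (k := k) (orderOf_mk_center haZ haq)
    (by rw [← map_pow, hk, map_one]) ⟨i, ?_⟩ ?_
  · show π a ^ i = _
    rw [← map_zpow, ← map_inv, ← map_mul, ← map_mul]
    exact QuotientGroup.eq.2 hi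
  · intro e
    refine haZ (hh.fpf hyp hr.prime hq.prime hqr hx hxZ ha ((QuotientGroup.eq_one_iff _).1 ?_))
    show π (h * a * h⁻¹ * a⁻¹) = 1
    rw [map_mul, map_mul, map_mul, map_inv, map_inv, e, mul_inv_cancel]

end CfsgLib.ClassSize.TwoRegular
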