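import Cfsg.Agent.Lib.ClassSize.TwoRegular.Partition

/-!
# The abelian Hall subgroups of centralisers
-/

set_option autoImplicit false

namespace CfsgLib.ClassSize.TwoRegular

open Subgroup

variable {G : Type*} [Group G] [Finite G] {p : ℕ}

/-- A non-central element of `hall p x` has the centraliser of `x`. -/
theorem cent_eq_of_mem_hall (hyp : Hyp G p) {x w : G} (hx : (orderOf x).Coprime p) (hxZ : x ∉ center G)
    (hw : w ∈ hall p x) (hwZ : w ∉ center G) : cent x = cent w :=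
  cent_eq_of_le hyp hx hw.2.1 hxZ hwZ hw.2.2

theorem cent_eq_of_mem_hall₂ (hyp : Hyp G p) {x y w : G} (hx : (orderOf x).Coprime p) (hxZ : x ∉ center G)
    (hy : (orderOf y).Coprime p) (hyZ : y ∉ center G)
    (hw : w ∈ hall p x) (hw' : w ∈ hall p y) (hwZ : w ∉ center G) : cent x = cent y :=
  (cent_eq_of_mem_hall hyp hx hxZ hw hwZ).trans (cent_eq_of_mem_hall hyp hy hyZ hw' hwZ).symm

/-- The `p`-regular elements of the centraliser are central in it. -/
theorem mem_hall_of_mem_cent (hyp : Hyp G p) {x y : G} (hx : (orderOf x).Coprime p) (hxZ : x ∉ center G)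
    (hy : (orderOf y).Coprime p) (hyx : y ∈ cent x) : y ∈ hall p x := by
  obtain ⟨q, k, x', hq, hqp, hx'Z, hk, hcx⟩ := exists_primePart hyp hx hxZ
  have hx' := orderOf_coprime_of_pow hyp.prime hq hqp hk
  obtain ⟨r, hr, hrp, hrq, hu⟩ := hyp.two q
  obtain ⟨u, l, hux, huZ, hl⟩ := exists_mem_cent hyp hr hrp hu hx' hx'Z
  have hu' := orderOf_coprime_of_pow hyp.prime hr hrp hl
  have hcu : cent x' = cent u := cent_eq_of_le hyp hx' hu' hx'Z huZ
    (cent_le_of_coprime hyp hx' hu' hx'Z (mem_cent.1 hux).symm (coprime_pow_pow hq hr hrq.symm hk hl))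
  have key : ∀ z : G, z ∈ cent x → (orderOf z).Coprime p → (∃ s j : ℕ, s.Prime ∧ orderOf z = s ^ j) →
      z ∈ hall p x := by
    rintro z hz hzreg ⟨s, j, hs, hj⟩
    refine ⟨hz, hzreg, ?_⟩
    have hzj : z ^ s ^ j = 1 := by rw [← hj]; exact pow_orderOf_eq_one z
    by_cases hsq : s = q
    · have hsr : r ≠ s := fun h => hrq (h.trans hsq)
      rw [hcx, hcu]
      exact cent_le_of_coprime hyp hu' hzreg huZ (mem_cent.1 (show z ∈ cent u by rw [← hcu, ← hcx]; exact hz)).symm
        (coprime_pow_pow hr hs hsr hl hzj)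
    · rw [hcx]
      exact cent_le_of_coprime hyp hx' hzreg hx'Z (mem_cent.1 (show z ∈ cent x' by rw [← hcx]; exact hz)).symm
        (coprime_pow_pow hq hs (Ne.symm hsq) hk hzj)
  have h1 : (⟨y, mem_zpowers y⟩ : zpowers y) ∈ (hall p x).subgroupOf (zpowers y) :=
    CfsgLib.FGStruct.Dedekind.mem_of_primePow (fun z hz => mem_subgroupOf.2 (key z
      (zpowers_le.2 hyx z.2) (Nat.Coprime.coprime_dvd_left (orderOf_dvd_of_mem_zpowers z.2) hy)
      (by simpa [Subgroup.orderOf_coe] using hz))) _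
  exact h1

theorem mem_part_of (hyp : Hyp G p) {q k : ℕ} (hq : q.Prime) (hqp : q ≠ p) {x y : G}
    (hx : (orderOf x).Coprime p) (hxZ : x ∉ center G) (hy : y ^ q ^ k = 1) (hyx : y ∈ cent x) :
    y ∈ part p q x :=
  ⟨mem_hall_of_mem_cent hyp hx hxZ (orderOf_coprime_of_pow hyp.prime hq hqp hy) hyx, k, hy⟩

theorem le_part (hyp : Hyp G p) {q : ℕ} (hq : q.Prime) (hqp : q ≠ p) {x : G} (hx : (orderOf x).Coprime p)
    (hxZ : x ∉ center G) {K : Subgroup G} (hK : IsPGroup q K) (hKx : K ≤ cent x) : K ≤ part p q x := by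
  intro y hy
  obtain ⟨k, hk⟩ := hK ⟨y, hy⟩
  exact mem_part_of hyp hq hqp hx hxZ (congrArg Subtype.val hk) (hKx hy)

theorem card_part (hyp : Hyp G p) {q : ℕ} (hq : q.Prime) (hqp : q ≠ p) {x : G} (hx : (orderOf x).Coprime p)
    (hxZ : x ∉ center G) : Nat.card (part p q x) = q ^ (Nat.card (cent x)).factorization q := by
  haveI := Fact.mk hq
  obtain ⟨S⟩ := (inferInstance : Nonempty (Sylow q (cent x)))
  have h1 : (S : Subgroup (cent x)).map (cent x).subtype ≤ part p q x :=
    le_part hyp hq hqp hx hxZ (S.2.map _) (map_subtype_le _)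
  obtain ⟨j, hj⟩ := IsPGroup.iff_card.1 (part_isPGroup p q x)
  have h2 : q ^ j ∣ Nat.card S :=
    S.pow_dvd_card_of_pow_dvd_card (hj ▸ card_dvd_of_le ((part_le_hall p q x).trans (hall_le_cent p x)))
  have h3 := card_dvd_of_le h1
  rw [card_subtype] at h3
  rw [← S.card_eq_multiplicity]
  exact Nat.dvd_antisymm (hj.symm ▸ h2) h3

theorem card_part_eq (hyp : Hyp G p) {q : ℕ} (hq : q.Prime) (hqp : q ≠ p) {x y : G}
    (hx : (orderOf x).Coprime p) (hxZ : x ∉ center G) (hy : (orderOf y).Coprime p) (hyZ : y ∉ center G) :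
    Nat.card (part p q x) = Nat.card (part p q y) := by
  rw [card_part hyp hq hqp hx hxZ, card_part hyp hq hqp hy hyZ, hyp.card_eq x y hx hy hxZ hyZ]

theorem index_eq (hyp : Hyp G p) {x y : G}
    (hx : (orderOf x).Coprime p) (hxZ : x ∉ center G) (hy : (orderOf y).Coprime p) (hyZ : y ∉ center G) :
    (cent x).index = (cent y).index := by
  have h := hyp.card_eq x y hx hy hxZ hyZ
  have h1 := (cent x).card_mul_index
  rw [← (cent y).card_mul_index, h] at h1
  exact Nat.eq_of_mul_eq_mul_left Nat.card_pos h1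

theorem exists_mem_part (hyp : Hyp G p) {r : ℕ} (hr : r.Prime) (hrp : r ≠ p)
    (hu : ∃ (u : G) (k : ℕ), u ∉ center G ∧ u ^ r ^ k = 1) {x : G} (hx : (orderOf x).Coprime p)
    (hxZ : x ∉ center G) : ∃ w ∈ part p r x, w ∉ center G := by
  obtain ⟨w, k, hw, hwZ, hk⟩ := exists_mem_cent hyp hr hrp hu hx hxZ
  exact ⟨w, mem_part_of hyp hr hrp hx hxZ hk hw, hwZ⟩

/-- Conjugation carrying one non-central element of `hall p x` into it normalises it. -/
theorem mem_normalizer_hall (hyp : Hyp G p) {x w g : G} (hx : (orderOf x).Coprime p) (hxZ : x ∉ center G)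
    (hw : w ∈ hall p x) (hwZ : w ∉ center G) (hgw : g * w * g⁻¹ ∈ hall p x) :
    g ∈ normalizer (hall p x : Set G) := by
  have h1 := cent_eq_of_mem_hall hyp hx hxZ hw hwZ
  have hwZ' : g * w * g⁻¹ ∉ center G := fun h => hwZ (by
    have := (inferInstance : (center G).Normal).conj_mem _ h g⁻¹
    simpa [mul_assoc] using this)
  have h2 := cent_eq_of_mem_hall hyp hx hxZ hgw hwZ'
  have hord : ∀ y : G, orderOf (g * y * g⁻¹) = orderOf y := fun y =>
    orderOf_injective (MulAut.conj g).toMonoidHom (MulAut.conj g).injective y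
  have hc : ∀ y : G, g * y * g⁻¹ ∈ cent (g * w * g⁻¹) ↔ y ∈ cent w := fun y => by
    rw [mem_cent, mem_cent]; exact Commute.conj_iff g
  rw [mem_normalizer_iff]
  intro y
  constructor
  · intro hy
    exact mem_hall_of_mem_cent hyp hx hxZ (by rw [hord]; exact hy.2.1)
      (by rw [h2, hc, ← h1]; exact hy.1)
  · intro hy
    exact mem_hall_of_mem_cent hyp hx hxZ (by rw [← hord]; exact hy.2.1)
      (by rw [h1, ← hc, ← h2]; exact hy.1)

theorem conj_mem_part {q : ℕ} {x g y : G} (hg : g ∈ normalizer (hall p x : Set G)) (hy : y ∈ part p q x) :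
    g * y * g⁻¹ ∈ part p q x := by
  obtain ⟨k, hk⟩ := hy.2
  exact ⟨(mem_normalizer_iff.1 hg y).1 hy.1, k, by rw [conj_pow, hk, mul_one, mul_inv_cancel]⟩

theorem mem_normalizer_part {q : ℕ} {x g : G} (hg : g ∈ normalizer (hall p x : Set G)) :
    g ∈ normalizer (part p q x : Set G) := by
  rw [mem_normalizer_iff]
  refine fun y => ⟨conj_mem_part hg, fun hy => ?_⟩
  have := conj_mem_part (inv_mem hg) hy
  simpa [mul_assoc] using this

/-- Conjugation by a central multiple. -/
theorem conj_pow_left_central {g x z : G} (hz : z ∈ center G) (h : g * x * g⁻¹ = z * x) :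
    ∀ j : ℕ, g ^ j * x * (g ^ j)⁻¹ = z ^ j * x := by
  intro j
  induction j with
  | zero => simp
  | succ j ih =>
    calc g ^ (j + 1) * x * (g ^ (j + 1))⁻¹ = g * (g ^ j * x * (g ^ j)⁻¹) * g⁻¹ := by rw [pow_succ']; group
      _ = g * z ^ j * (x * g⁻¹) := by rw [ih]; group
      _ = z ^ j * g * (x * g⁻¹) := by rw [mem_center_iff.1 (pow_mem hz j) g]
      _ = z ^ j * (g * x * g⁻¹) := by group
      _ = z ^ (j + 1) * x := by rw [h, ← mul_assoc, ← pow_succ]

theorem conj_pow_right_central {g x z : G} (hz : z ∈ center G) (h : g * x * g⁻¹ = z * x) (j : ℕ) :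
    g * x ^ j * g⁻¹ = z ^ j * x ^ j := by
  rw [← conj_pow, h, Commute.mul_pow (mem_center_iff.1 hz x).symm]

end CfsgLib.ClassSize.TwoRegular
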