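import Cfsg.Agent.Lib.ClassSize.TwoRegular.Frame

/-!
# The automizer of a frame contains the special linear group
-/

set_option autoImplicit false

namespace CfsgLib.ClassSize.TwoRegular

open Subgroup
open scoped Matrix

variable {G : Type*} [Group G] [Finite G] {p q : ℕ}

/-- The image in `G / Z(G)`. -/
abbrev modZ {G : Type*} [Group G] : G →* G ⧸ center G := QuotientGroup.mk' (center G)

/-- The element of the frame with given coordinates. -/
def coord (q : ℕ) (X Y : G ⧸ center G) (v : Fin 2 → ZMod q) : G ⧸ center G := X ^ (v 0).val * Y ^ (v 1).val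

/-- A matrix realised by conjugation on the frame. -/
def Realized (q : ℕ) (x g : G) (M : Matrix (Fin 2) (Fin 2) (ZMod q)) : Prop :=
  ∃ w : G, ∀ v : Fin 2 → ZMod q,
    modZ w * coord q (modZ x) (modZ g) v * (modZ w)⁻¹ = coord q (modZ x) (modZ g) (M *ᵥ v)

variable [hq : Fact q.Prime]

omit [Finite G] in
theorem pow_val_add {X : G ⧸ center G} (hX : X ^ q = 1) (a b : ZMod q) :
    X ^ (a + b).val = X ^ a.val * X ^ b.val := by
  rw [ZMod.val_add, ← pow_eq_pow_mod _ hX, pow_add]

omit [Finite G] in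
theorem pow_val_mul {X : G ⧸ center G} (hX : X ^ q = 1) (a b : ZMod q) :
    X ^ (a * b).val = (X ^ a.val) ^ b.val := by
  rw [ZMod.val_mul, ← pow_eq_pow_mod _ hX, pow_mul]

section

variable {x g : G}

omit [Finite G] hq in
theorem Frame.pow_q [Finite G] (F : Frame p q x g) : modZ x ^ q = 1 ∧ modZ g ^ q = 1 :=
  ⟨by rw [← map_pow]; exact (QuotientGroup.eq_one_iff _).2 F.pow_left,
    by rw [← map_pow]; exact (QuotientGroup.eq_one_iff _).2 F.pow_right⟩

omit hq in
theorem Frame.commute (F : Frame p q x g) : Commute (modZ x) (modZ g) := by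
  have h : modZ (g * x * g⁻¹ * x⁻¹) = 1 := (QuotientGroup.eq_one_iff _).2 F.comm
  rw [map_mul, map_mul, map_mul, map_inv, map_inv, mul_inv_eq_one, mul_inv_eq_iff_eq_mul] at h
  exact h.symm

theorem Frame.coord_add (F : Frame p q x g) (v w : Fin 2 → ZMod q) :
    coord q (modZ x) (modZ g) (v + w) = coord q (modZ x) (modZ g) v * coord q (modZ x) (modZ g) w := by
  simp only [coord, Pi.add_apply, pow_val_add F.pow_q.1, pow_val_add F.pow_q.2]
  rw [mul_assoc, mul_assoc, ← mul_assoc _ (modZ g ^ (v 1).val), (F.commute.pow_pow (w 0).val (v 1).val).eq,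
    mul_assoc]

theorem Frame.realized_of_basis (F : Frame p q x g) {M : Matrix (Fin 2) (Fin 2) (ZMod q)} {w : G}
    (h0 : modZ w * modZ x * (modZ w)⁻¹ = coord q (modZ x) (modZ g) ![M 0 0, M 1 0])
    (h1 : modZ w * modZ g * (modZ w)⁻¹ = coord q (modZ x) (modZ g) ![M 0 1, M 1 1]) :
    Realized q x g M := by
  refine ⟨w, fun v => ?_⟩
  rw [show coord q (modZ x) (modZ g) v = modZ x ^ (v 0).val * modZ g ^ (v 1).val from rfl, ← conj_mul, ← conj_pow,
    ← conj_pow, h0, h1]
  have key : ∀ (t : ZMod q) (a b : ZMod q), coord q (modZ x) (modZ g) ![a, b] ^ t.val =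
      coord q (modZ x) (modZ g) ![a * t, b * t] := fun t a b => by
    simp only [coord, Matrix.cons_val_zero, Matrix.cons_val_one]
    rw [(F.commute.pow_pow _ _).mul_pow, ← pow_val_mul F.pow_q.1, ← pow_val_mul F.pow_q.2]
  rw [key, key, ← F.coord_add]
  congr 1
  ext i
  fin_cases i <;> simp [Matrix.mulVec, dotProduct, Fin.sum_univ_two]

theorem Realized.mul {M N : Matrix (Fin 2) (Fin 2) (ZMod q)} (hM : Realized q x g M) (hN : Realized q x g N) :
    Realized q x g (M * N) := by
  obtain ⟨u, hu⟩ := hM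
  obtain ⟨v, hv⟩ := hN
  refine ⟨u * v, fun t => ?_⟩
  rw [← Matrix.mulVec_mulVec, ← hu, ← hv, map_mul]
  group

theorem Realized.pow {M : Matrix (Fin 2) (Fin 2) (ZMod q)} (hM : Realized q x g M) :
    ∀ n : ℕ, Realized q x g (M ^ n) := by
  intro n
  induction n with
  | zero => exact ⟨1, fun v => by simp⟩
  | succ n ih => rw [pow_succ]; exact ih.mul hM

theorem coord_e0 : coord q (modZ x) (modZ g) ![1, 0] = modZ x := by
  simp [coord, ZMod.val_one, ZMod.val_zero]

theorem coord_e1 : coord q (modZ x) (modZ g) ![0, 1] = modZ g := by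
  simp [coord, ZMod.val_one, ZMod.val_zero]

/-- An element of the part of `x` moving `g` along `x` modulo the centre. -/
theorem Frame.exists_transvection (hyp : Hyp G p) (hd : Div G p q) (F : Frame p q x g) (hbig : Big p q x) :
    ∃ (a : G) (i : ℤ), ¬ (q : ℤ) ∣ i ∧ modZ a * modZ x * (modZ a)⁻¹ = modZ x ∧
      modZ a * modZ g * (modZ a)⁻¹ = modZ x ^ i * modZ g := by
  set A := part p q x
  set π := QuotientGroup.mk' (center G)
  obtain ⟨k, hk⟩ := F.out.pow
  obtain ⟨l, -, hl⟩ := (Nat.dvd_prime_pow hd.prime).1 (orderOf_dvd_of_pow_eq_one hk)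
  set P := zpowers g ⊔ A
  have hP : IsPGroup q (P.map π) :=
    (isPGroup_sup_part (IsPGroup.of_card (n := l) (by rw [Nat.card_zpowers, hl])) (zpowers_le.2 F.out.mem)).map π
  haveI : ((A.map π).subgroupOf (P.map π)).Normal :=
    normal_subgroupOf_of_le_normalizer ((map_mono (sup_le (zpowers_le.2 (mem_normalizer_part F.out.mem)) le_normalizer)).trans
      (le_normalizer_map π))
  haveI : ((zpowers (π x)).subgroupOf (P.map π)).Normal := by
    refine normal_subgroupOf_of_le_normalizer (le_trans ?_ (centralizer_le_normalizer _))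
    rw [map_le_iff_le_comap]
    refine sup_le (zpowers_le.2 ?_) (fun a ha => ?_) <;> rw [mem_comap, mem_centralizer_iff]
    · rintro _ ⟨j, rfl⟩; exact (F.commute.zpow_left j).eq
    · rintro _ ⟨j, rfl⟩; exact (((commute_hall F.mem_part.1 ha.1).map π).zpow_left j).eq
  have hle : (zpowers (π x)).subgroupOf (P.map π) ≤ (A.map π).subgroupOf (P.map π) :=
    subgroupOf_mono _ (by rw [zpowers_le]; exact mem_map_of_mem π F.mem_part)
  have hlt : (zpowers (π x)).subgroupOf (P.map π) < (A.map π).subgroupOf (P.map π) := by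
    refine hle.lt_of_ne fun e => not_big_of_zpowers hd.prime F.mem_part F.pow_left (fun b hb => ?_) hbig
    have h1 : (⟨π b, mem_map_of_mem π (mem_sup_right hb)⟩ : P.map π) ∈ (zpowers (π x)).subgroupOf (P.map π) := by
      rw [e]; exact mem_subgroupOf.2 (mem_map_of_mem π hb)
    obtain ⟨i, hi⟩ := mem_zpowers_iff.1 (mem_subgroupOf.1 h1)
    exact ⟨i, QuotientGroup.eq.1 (by rw [← map_zpow] at hi; exact hi)⟩
  obtain ⟨⟨c, hc⟩, hcA, hcX, -, hcomm⟩ := CfsgLib.PGroup.exists_step hP _ _ hlt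
  obtain ⟨a, ha, rfl⟩ := mem_map.1 (mem_subgroupOf.1 hcA)
  obtain ⟨i, hi⟩ := mem_zpowers_iff.1 (mem_subgroupOf.1 (hcomm ⟨π g, mem_map_of_mem π (mem_sup_left (mem_zpowers g))⟩))
  have hi' : π x ^ i = π a * π g * (π a)⁻¹ * (π g)⁻¹ := hi
  refine ⟨a, i, fun hqi => ?_, ?_, ?_⟩
  · obtain ⟨j, hj⟩ := hqi
    rw [hj, zpow_mul, zpow_natCast, F.pow_q.1, one_zpow, eq_comm, mul_inv_eq_one, mul_inv_eq_iff_eq_mul] at hi'
    have hz : g * a * g⁻¹ * a⁻¹ ∈ center G := by
      rw [← QuotientGroup.eq_one_iff]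
      change π (g * a * g⁻¹ * a⁻¹) = 1
      rw [map_mul, map_mul, map_mul, map_inv, map_inv, ← hi', mul_inv_cancel_right, mul_inv_cancel]
    obtain ⟨m, hm⟩ := F.out.fixed_unique hyp hd F.reg F.not_center F.mem_part F.not_center F.comm ha hz
    refine hcX (mem_subgroupOf.2 ⟨m, ?_⟩)
    show π x ^ m = π a
    rw [← map_zpow]; exact QuotientGroup.eq.2 hm
  · rw [(((commute_hall F.mem_part.1 ha.1).map π).symm).eq, mul_inv_cancel_right]
  · show π a * π g * (π a)⁻¹ = π x ^ i * π g
    rw [hi', inv_mul_cancel_right]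

/-- Upper unitriangular matrices are realised. -/
theorem Frame.realized_upper (hyp : Hyp G p) (hd : Div G p q) (F : Frame p q x g) (hbig : Big p q x) (t : ZMod q) :
    Realized q x g !![1, t; 0, 1] := by
  obtain ⟨a, i, hi, h0, h1⟩ := F.exists_transvection hyp hd hbig
  have hi0 : (i : ZMod q) ≠ 0 := fun e => hi ((ZMod.intCast_zmod_eq_zero_iff_dvd i q).1 e)
  have hR : Realized q x g !![1, (i : ZMod q); 0, 1] := by
    refine F.realized_of_basis (w := a) ?_ ?_
    · simpa [coord, ZMod.val_one, ZMod.val_zero] using h0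
    · rw [h1]
      simp only [coord, Matrix.cons_val_zero, Matrix.cons_val_one, ZMod.val_one, pow_one, Matrix.of_apply, Matrix.cons_val']
      congr 1
      rw [← zpow_natCast (modZ x), ← sub_add_cancel i ((i : ZMod q).val : ℤ), zpow_add]
      have : (q : ℤ) ∣ i - ((i : ZMod q).val : ℤ) := by
        rw [← ZMod.intCast_zmod_eq_zero_iff_dvd]; simp
      obtain ⟨j, hj⟩ := this
      rw [hj, zpow_mul, zpow_natCast, F.pow_q.1, one_zpow, one_mul]
      simp
  have key : ∀ n : ℕ, (!![1, (i : ZMod q); 0, 1] : Matrix (Fin 2) (Fin 2) (ZMod q)) ^ n = !![1, n * (i : ZMod q); 0, 1] := by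
    intro n
    induction n with
    | zero => simp [Matrix.one_fin_two]
    | succ n ih => rw [pow_succ, ih]; simp [Matrix.mul_fin_two]; ring
  have h := hR.pow (t * (i : ZMod q)⁻¹).val
  rw [key, ZMod.natCast_zmod_val, inv_mul_cancel_right₀ hi0] at h
  exact h

omit hq in
theorem coord_swap [Finite G] (F : Frame p q x g) (v : Fin 2 → ZMod q) :
    coord q (modZ g) (modZ x) ![v 1, v 0] = coord q (modZ x) (modZ g) v := by
  simp only [coord, Matrix.cons_val_zero, Matrix.cons_val_one]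
  exact (F.commute.pow_pow _ _).symm.eq

/-- Lower unitriangular matrices are realised. -/
theorem Frame.realized_lower (hyp : Hyp G p) (hd : Div G p q) (F : Frame p q x g) (hbig : Big p q x) (t : ZMod q) :
    Realized q x g !![1, 0; t, 1] := by
  have hbig' : Big p q g := (big_iff hyp hd.prime hd.ne (F.out.coprime hyp hd) F.out.not_center F.reg F.not_center).2 hbig
  obtain ⟨w, hw⟩ := (F.symm hyp hd).realized_upper hyp hd hbig' t
  refine ⟨w, fun v => ?_⟩
  rw [← coord_swap F v, hw, ← coord_swap F (!![1, 0; t, 1] *ᵥ v)]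
  congr 1
  ext i
  fin_cases i <;> simp [Matrix.mulVec, dotProduct, Fin.sum_univ_two] <;> ring

/-- Diagonal matrices of determinant one are realised. -/
theorem Frame.realized_diag (hyp : Hyp G p) (hd : Div G p q) (F : Frame p q x g) (hbig : Big p q x) {c : ZMod q}
    (hc : c ≠ 0) : Realized q x g !![c, 0; 0, c⁻¹] := by
  have hU := fun t => F.realized_upper hyp hd hbig t
  have hL := fun t => F.realized_lower hyp hd hbig t
  have h := (((hU c).mul (hL (-c⁻¹))).mul (hU c)).mul (((hU (-1)).mul (hL 1)).mul (hU (-1)))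
  have e : (!![c, 0; 0, c⁻¹] : Matrix (Fin 2) (Fin 2) (ZMod q)) =
      !![1, c; 0, 1] * !![1, 0; -c⁻¹, 1] * !![1, c; 0, 1] * (!![1, -1; 0, 1] * !![1, 0; 1, 1] * !![1, -1; 0, 1]) := by
    simp [Matrix.mul_fin_two, hc]
  rw [e]; exact h

/-- An element of order three is realised. -/
theorem Frame.realized_three (hyp : Hyp G p) (hd : Div G p q) (F : Frame p q x g) (hbig : Big p q x) :
    Realized q x g !![0, -1; 1, -1] := by
  have hU := fun t => F.realized_upper hyp hd hbig t
  have hL := fun t => F.realized_lower hyp hd hbig t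
  have h := (((hU (-1)).mul (hL 1)).mul (hU (-1))).mul (hU (-1))
  have e : (!![0, -1; 1, -1] : Matrix (Fin 2) (Fin 2) (ZMod q)) =
      !![1, -1; 0, 1] * !![1, 0; 1, 1] * !![1, -1; 0, 1] * !![1, -1; 0, 1] := by
    simp [Matrix.mul_fin_two]
  rw [e]; exact h

/-- A realised matrix killed by a prime `u` is realised by a `u`-element. -/
theorem Realized.exists_primePow {u : ℕ} (hu : u.Prime) {M : Matrix (Fin 2) (Fin 2) (ZMod q)}
    (hM : Realized q x g M) (hMu : M ^ u = 1) :
    ∃ (w : G) (k : ℕ), w ^ u ^ k = 1 ∧ ∀ v : Fin 2 → ZMod q,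
      modZ w * coord q (modZ x) (modZ g) v * (modZ w)⁻¹ = coord q (modZ x) (modZ g) (M *ᵥ v) := by
  obtain ⟨w, hw⟩ := hM
  obtain ⟨e, n', hn', hen⟩ := Nat.exists_eq_pow_mul_and_not_dvd (orderOf_pos w).ne' u hu.ne_one
  obtain ⟨m, hm1, hm2⟩ : ∃ m : ℕ, m ≡ 1 [MOD u] ∧ m ≡ 0 [MOD n'] :=
    ⟨_, (Nat.chineseRemainder ((hu.coprime_iff_not_dvd).2 hn') 1 0).2⟩
  refine ⟨w ^ m, e, ?_, ?_⟩
  · obtain ⟨t, ht⟩ := Nat.modEq_zero_iff_dvd.1 hm2
    rw [← pow_mul, ht, mul_right_comm, mul_comm n', ← hen, pow_mul, pow_orderOf_eq_one, one_pow]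
  · have key : ∀ (n : ℕ) (v : Fin 2 → ZMod q),
        modZ (w ^ n) * coord q (modZ x) (modZ g) v * (modZ (w ^ n))⁻¹ = coord q (modZ x) (modZ g) ((M ^ n) *ᵥ v) := by
      intro n
      induction n with
      | zero => intro v; simp
      | succ n ih =>
        intro v
        rw [pow_succ M, ← Matrix.mulVec_mulVec, ← ih, ← hw, pow_succ, map_mul]
        group
    intro v
    rw [key, pow_eq_pow_mod m hMu]
    have h1 : m % u = 1 := by
      have : m % u = 1 % u := hm1
      rwa [Nat.mod_eq_of_lt hu.one_lt] at this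
    rw [h1, pow_one]

end

end CfsgLib.ClassSize.TwoRegular
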