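import Cfsg.Agent.Lib.ClassSize.TwoRegular.Pairs

/-!
# The automizer of a Hall part
-/

set_option autoImplicit false

namespace CfsgLib.ClassSize.TwoRegular

open Subgroup

variable {G : Type*} [Group G] [Finite G] {p : ℕ}

/-- The normaliser of the Hall part. -/
abbrev hallNormalizer (p : ℕ) (x : G) : Subgroup G := normalizer (hall p x : Set G)

omit [Finite G] in
theorem cent_le_normalizer {x : G} : cent x ≤ hallNormalizer p x := fun c hc => by
  rw [mem_normalizer_iff]
  intro y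
  constructor
  · intro hy
    rw [(mem_cent.1 (hy.2.2 hc)).eq, mul_inv_cancel_right]; exact hy
  · intro hy
    have h1 : Commute c (c * y * c⁻¹) := mem_cent.1 (hy.2.2 hc)
    have h2 : c * y * c⁻¹ = y := by
      have e := h1.eq
      calc c * y * c⁻¹ = c⁻¹ * (c * (c * y * c⁻¹)) := by group
        _ = y := by rw [e]; group
    rwa [h2] at hy

omit [Finite G] in
theorem cent_subgroupOf_normal {x : G} (hx : (orderOf x).Coprime p) :
    ((cent x).subgroupOf (hallNormalizer p x)).Normal :=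
  ⟨fun c hc n => mem_subgroupOf.2 (cent_conj_mem hx n.2 hc)⟩

/-- An element of prime order in the automizer lifts to an element of prime power order. -/
theorem exists_lift (hyp : Hyp G p) {x : G} (hx : (orderOf x).Coprime p)
    {s : ℕ} (hs : s.Prime) [((cent x).subgroupOf (hallNormalizer p x)).Normal]
    (c : hallNormalizer p x ⧸ (cent x).subgroupOf (hallNormalizer p x)) (hc : orderOf c = s) :
    ∃ w : hallNormalizer p x, Out p s x w ∧ QuotientGroup.mk' _ w = c := by
  obtain ⟨w, rfl⟩ := QuotientGroup.mk'_surjective _ c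
  obtain ⟨e, n', hn', hen⟩ := Nat.exists_eq_pow_mul_and_not_dvd (orderOf_pos w).ne' s hs.ne_one
  obtain ⟨m, hm1, hm2⟩ : ∃ m : ℕ, m ≡ 1 [MOD s] ∧ m ≡ 0 [MOD n'] :=
    ⟨_, (Nat.chineseRemainder ((hs.coprime_iff_not_dvd).2 hn') 1 0).2⟩
  have himg : QuotientGroup.mk' _ (w ^ m) = QuotientGroup.mk' ((cent x).subgroupOf (hallNormalizer p x)) w := by
    rw [map_pow]; nth_rw 2 [← pow_one (QuotientGroup.mk' _ w)]
    exact pow_eq_pow_iff_modEq.2 (hc.symm ▸ hm1)
  refine ⟨w ^ m, ⟨⟨e, ?_⟩, SetLike.coe_mem _, fun hcx => ?_⟩, himg⟩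
  · obtain ⟨t, ht⟩ := Nat.modEq_zero_iff_dvd.1 hm2
    rw [← SubgroupClass.coe_pow, ← pow_mul, ht, mul_right_comm, mul_comm n', ← hen, pow_mul, pow_orderOf_eq_one,
      one_pow]
    rfl
  · have h1 : QuotientGroup.mk' ((cent x).subgroupOf (hallNormalizer p x)) (w ^ m) = 1 :=
      (QuotientGroup.eq_one_iff _).2 (mem_subgroupOf.2 hcx)
    rw [himg] at h1
    rw [h1, orderOf_one] at hc
    exact hs.ne_one hc.symm

/-- The odd-prime factorisation of the order of the automizer. -/
theorem factorization_quot (hyp : Hyp G p) {x : G} (hx : (orderOf x).Coprime p) (hxZ : x ∉ center G)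
    [((cent x).subgroupOf (hallNormalizer p x)).Normal] {s : ℕ} (hs : s.Prime) (hsp : s ≠ p) :
    (Nat.card (hallNormalizer p x ⧸ (cent x).subgroupOf (hallNormalizer p x))).factorization s ≤ 1 ∧
    (s ∣ Nat.card (hallNormalizer p x ⧸ (cent x).subgroupOf (hallNormalizer p x)) ↔ Div G p s) := by
  haveI := Fact.mk hs
  set C := (cent x).subgroupOf (hallNormalizer p x)
  set K := hallNormalizer p x ⧸ C
  have hdiv : s ∣ Nat.card K → Div G p s := by
    intro hd
    obtain ⟨c, hc⟩ := exists_prime_orderOf_dvd_card' s hd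
    obtain ⟨w, hw, -⟩ := exists_lift hyp hx hs c hc
    exact Div.of_out hyp hs hsp hx hxZ hw
  refine ⟨?_, hdiv, fun hd => ?_⟩
  · by_cases hsK : s ∣ Nat.card K
    swap
    · rw [Nat.factorization_eq_zero_of_not_dvd hsK]; exact zero_le_one
    have hd := hdiv hsK
    obtain ⟨S⟩ := (inferInstance : Nonempty (Sylow s (hallNormalizer p x)))
    have h1 := card_le_of_isPGroup hyp hd (S.2.map (hallNormalizer p x).subtype) hx hxZ
    rw [card_subtype, S.card_eq_multiplicity, card_part hyp hs hsp hx hxZ, ← pow_succ'] at h1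
    have h2 := (Nat.pow_le_pow_iff_right hs.one_lt).1 h1
    have h3 : Nat.card (hallNormalizer p x) = Nat.card K * Nat.card (cent x) := by
      rw [card_eq_card_quotient_mul_card_subgroup C, Nat.card_congr (subgroupOfEquivOfLe cent_le_normalizer).toEquiv]
    rw [h3, Nat.factorization_mul Nat.card_pos.ne' Nat.card_pos.ne', Finsupp.add_apply] at h2
    omega
  · obtain ⟨Q, -, hQN, g, -, hg⟩ := exists_sylow hyp hd hx hxZ
    obtain ⟨k, hk⟩ := hg.pow
    set c := QuotientGroup.mk' C ⟨g, hg.mem⟩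
    have hc1 : c ≠ 1 := fun e => hg.not_mem (mem_subgroupOf.1 ((QuotientGroup.eq_one_iff _).1 e))
    have hck : c ^ s ^ k = 1 := by
      rw [← map_pow, show (⟨g, hg.mem⟩ : hallNormalizer p x) ^ s ^ k = 1 from Subtype.ext hk, map_one]
    obtain ⟨i, -, hi⟩ := (Nat.dvd_prime_pow hs).1 (orderOf_dvd_of_pow_eq_one hck)
    rcases i with _ | i
    · exact absurd (orderOf_eq_one_iff.1 (by rw [hi, pow_zero])) hc1
    · exact (dvd_pow_self s (Nat.succ_ne_zero i)).trans (hi ▸ orderOf_dvd_natCard c)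

/-- Without pairs no element of another prime order normalises a Sylow subgroup of the automizer. -/
theorem not_dvd_card_normalizer (hyp : Hyp G p) {x : G} (hx : (orderOf x).Coprime p) (hxZ : x ∉ center G)
    [((cent x).subgroupOf (hallNormalizer p x)).Normal] {q r : ℕ} (hq : Div G p q) (hr : Div G p r) (hqr : q ≠ r)
    (hnp : ∀ (g h : G) (μ : ℕ), Out p q x g → Out p r x h → g * h * g⁻¹ * (h ^ μ)⁻¹ ∉ cent x)
    (R : Sylow r (hallNormalizer p x ⧸ (cent x).subgroupOf (hallNormalizer p x))) :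
    ¬ q ∣ Nat.card (normalizer ((R : Subgroup (hallNormalizer p x ⧸ (cent x).subgroupOf (hallNormalizer p x))) :
      Set (hallNormalizer p x ⧸ (cent x).subgroupOf (hallNormalizer p x)))) := by
  intro hd
  haveI := Fact.mk hr.prime
  haveI := Fact.mk hq.prime
  obtain ⟨hf, hiff⟩ := factorization_quot hyp hx hxZ hr.prime hr.ne
  obtain ⟨⟨b, hb⟩, hbq⟩ := exists_prime_orderOf_dvd_card' q hd
  rw [Subgroup.orderOf_mk] at hbq
  have hRcard : Nat.card R = r := by
    rw [R.card_eq_multiplicity]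
    have := hr.prime.factorization_pos_of_dvd Nat.card_pos.ne' (hiff.2 hr)
    rw [show (Nat.card (hallNormalizer p x ⧸ (cent x).subgroupOf (hallNormalizer p x))).factorization r = 1 by omega,
      pow_one]
  haveI : IsCyclic (R : Subgroup (hallNormalizer p x ⧸ (cent x).subgroupOf (hallNormalizer p x))) :=
    isCyclic_of_prime_card hRcard
  obtain ⟨⟨c, hc⟩, hgen⟩ := IsCyclic.exists_zpow_surjective
    (G := (R : Subgroup (hallNormalizer p x ⧸ (cent x).subgroupOf (hallNormalizer p x))))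
  have hc1 : c ≠ 1 := by
    rintro rfl
    haveI : Subsingleton (R : Subgroup (hallNormalizer p x ⧸ (cent x).subgroupOf (hallNormalizer p x))) :=
      ⟨fun a b => by
        obtain ⟨i, rfl⟩ := hgen a; obtain ⟨j, rfl⟩ := hgen b
        exact Subtype.ext (by simp)⟩
    rw [Nat.card_eq_one_iff_unique.2 ⟨inferInstance, inferInstance⟩] at hRcard
    exact hr.prime.ne_one hRcard.symm
  have hcr : orderOf c = r := orderOf_eq_prime (by
    have := pow_card_eq_one' (x := (⟨c, hc⟩ : (R : Subgroup _)))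
    rw [hRcard] at this
    exact congrArg Subtype.val this) hc1
  obtain ⟨g, hg, hgb⟩ := exists_lift hyp hx hq.prime b hbq
  obtain ⟨h, hh, hhc⟩ := exists_lift hyp hx hr.prime c hcr
  obtain ⟨i, hi⟩ := hgen ⟨b * c * b⁻¹, (mem_normalizer_iff.1 hb c).1 hc⟩
  have hi' : c ^ i = b * c * b⁻¹ := congrArg Subtype.val hi
  obtain ⟨n, hn⟩ : ∃ n : ℕ, c ^ n = c ^ i := by
    have := (mem_powers_iff_mem_zpowers (x := c) (y := c ^ i)).2 ⟨i, rfl⟩
    exact this
  refine hnp g h n hg hh ?_
  have h1 : QuotientGroup.mk' ((cent x).subgroupOf (hallNormalizer p x)) (g * h * g⁻¹ * (h ^ n)⁻¹) = 1 := by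
    rw [map_mul, map_mul, map_mul, map_inv, map_inv, map_pow, hgb, hhc, hn, hi', mul_inv_cancel]
  exact mem_subgroupOf.1 ((QuotientGroup.eq_one_iff _).1 h1)

/-- A part which is not big: some Sylow subgroup of the automizer is normalised by every other prime. -/
theorem exists_dvd_card_normalizer (hyp : Hyp G p) {q r : ℕ} (hq : Div G p q) (hr : Div G p r) (hqr : q ≠ r)
    {x : G} (hx : (orderOf x).Coprime p) (hxZ : x ∉ center G) (hsmall : ¬ Big p r x)
    [((cent x).subgroupOf (hallNormalizer p x)).Normal] :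
    ∃ R : Sylow r (hallNormalizer p x ⧸ (cent x).subgroupOf (hallNormalizer p x)),
      q ∣ Nat.card (normalizer ((R : Subgroup (hallNormalizer p x ⧸ (cent x).subgroupOf (hallNormalizer p x))) :
        Set (hallNormalizer p x ⧸ (cent x).subgroupOf (hallNormalizer p x)))) := by
  haveI := Fact.mk hr.prime
  haveI := Fact.mk hq.prime
  set π : G →* G ⧸ center G := QuotientGroup.mk' (center G)
  set A := (part p r x).map π
  set N := hallNormalizer p x
  set C := (cent x).subgroupOf N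
  let ψ : N →* MulAut A := (normalizerMonoidHom A).comp
    ((π.comp N.subtype).codRestrict (normalizer (A : Set (G ⧸ center G))) fun n =>
      le_normalizer_map π (mem_map_of_mem π (mem_normalizer_part n.2)))
  have hψ : ∀ (n : N) (v : A), ((ψ n v : A) : G ⧸ center G) = π n * v * (π n)⁻¹ := fun n v => rfl
  have hC : C ≤ ψ.ker := fun n hn => MonoidHom.mem_ker.2 (MulEquiv.ext fun v => Subtype.ext (by
    obtain ⟨a, ha, hav⟩ := mem_map.1 v.2
    rw [hψ, MulAut.one_apply, ← hav, ((mem_cent.1 (ha.1.2.2 (mem_subgroupOf.1 hn))).map π).eq,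
      mul_inv_cancel_right]))
  set φ := QuotientGroup.lift C ψ hC
  -- the `r`-element is in the kernel
  obtain ⟨-, -, -, h, -, hh⟩ := exists_sylow hyp hr hx hxZ
  obtain ⟨-, -, -, g, -, hg⟩ := exists_sylow hyp hq hx hxZ
  obtain ⟨a, ha, haZ, hz⟩ := hh.exists_fixed hyp hr hx hxZ
  have hker : ψ ⟨h, hh.mem⟩ = 1 := MulEquiv.ext fun v => Subtype.ext (by
    obtain ⟨b, hb, hbv⟩ := mem_map.1 v.2
    rw [hψ, MulAut.one_apply, ← hbv]
    obtain ⟨i, hi⟩ := exists_zpow_of_not_big hr.prime hsmall ha haZ hb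
    have hb' : π b = π a ^ i := by
      rw [← map_zpow]; exact (QuotientGroup.eq.2 hi).symm
    have hfix : π h * π a * (π h)⁻¹ = π a := by
      have h1 : π (h * a * h⁻¹ * a⁻¹) = 1 := (QuotientGroup.eq_one_iff _).2 hz
      rwa [map_mul, map_mul, map_mul, map_inv, map_inv, mul_inv_eq_one] at h1
    show π h * π b * (π h)⁻¹ = π b
    rw [hb', ← conj_zpow, hfix])
  have hgne : ψ ⟨g, hg.mem⟩ ≠ 1 := fun e => haZ (hg.fpf hyp hq.prime hr.prime hqr.symm hx hxZ ha (by
    have h1 := congrArg Subtype.val (DFunLike.congr_fun e ⟨π a, mem_map_of_mem π ha⟩)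
    rw [hψ] at h1
    rw [← QuotientGroup.eq_one_iff]
    change π (g * a * g⁻¹ * a⁻¹) = 1
    rw [map_mul, map_mul, map_mul, map_inv, map_inv, show π g * π a * (π g)⁻¹ = π a from h1, mul_inv_cancel]))
  set K := N ⧸ C
  set hb := QuotientGroup.mk' C ⟨h, hh.mem⟩
  have hbne : hb ≠ 1 := fun e => hh.not_mem (mem_subgroupOf.1 ((QuotientGroup.eq_one_iff _).1 e))
  obtain ⟨k, hk⟩ := hh.pow
  have hbk : hb ^ r ^ k = 1 := by
    rw [← map_pow, show (⟨h, hh.mem⟩ : N) ^ r ^ k = 1 from Subtype.ext hk, map_one]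
  have hker' : hb ∈ φ.ker := MonoidHom.mem_ker.2 hker
  obtain ⟨j, -, hj⟩ := (Nat.dvd_prime_pow hr.prime).1 (orderOf_dvd_of_pow_eq_one hbk)
  have hP : IsPGroup r (zpowers (⟨hb, hker'⟩ : φ.ker)) := IsPGroup.of_card (n := j) (by
    rw [Nat.card_zpowers, Subgroup.orderOf_mk, hj])
  obtain ⟨S, hS⟩ := hP.exists_le_sylow
  have hnd : ¬ r ∣ ((S : Subgroup φ.ker).map φ.ker.subtype).index := by
    intro hd
    obtain ⟨hf, -⟩ := factorization_quot hyp hx hxZ hr.prime hr.ne
    have h1 := ((S : Subgroup φ.ker).map φ.ker.subtype).card_mul_index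
    have hS1 : r ∣ Nat.card ((S : Subgroup φ.ker).map φ.ker.subtype) := by
      rw [card_subtype]
      refine dvd_trans ?_ (card_dvd_of_le hS)
      rw [Nat.card_zpowers, Subgroup.orderOf_mk, hj]
      refine dvd_pow_self r fun h0 => hbne (orderOf_eq_one_iff.1 ?_)
      rw [hj, h0, pow_zero]
    have h2 : r ^ 2 ∣ Nat.card K := by rw [← h1, pow_two]; exact mul_dvd_mul hS1 hd
    exact absurd (le_trans ((hr.prime.pow_dvd_iff_le_factorization Nat.card_pos.ne').1 h2) hf) (by omega)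
  refine ⟨(S.2.map φ.ker.subtype).toSylow hnd, ?_⟩
  set M := normalizer (((S : Subgroup φ.ker).map φ.ker.subtype : Subgroup K) : Set K)
  show q ∣ Nat.card M
  have htop : M ⊔ φ.ker = ⊤ := Sylow.normalizer_sup_eq_top S
  have hmap : M.map φ = φ.range := by
    rw [MonoidHom.range_eq_map, ← htop, Subgroup.map_sup,
      (Subgroup.map_eq_bot_iff (H := φ.ker) (f := φ)).2 le_rfl, sup_bot_eq]
  refine dvd_trans ?_ (M.card_map_dvd φ)
  rw [hmap]
  obtain ⟨l, hl⟩ := hg.pow
  have h3 : (ψ ⟨g, hg.mem⟩) ^ q ^ l = 1 := by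
    rw [← map_pow, show (⟨g, hg.mem⟩ : N) ^ q ^ l = 1 from Subtype.ext hl, map_one]
  obtain ⟨i, -, hi⟩ := (Nat.dvd_prime_pow hq.prime).1 (orderOf_dvd_of_pow_eq_one h3)
  rcases i with _ | i
  · exact absurd (orderOf_eq_one_iff.1 (by rw [hi, pow_zero])) hgne
  · refine (dvd_pow_self q (Nat.succ_ne_zero i)).trans (hi ▸ ?_)
    have hm : ψ ⟨g, hg.mem⟩ ∈ φ.range := ⟨QuotientGroup.mk' C ⟨g, hg.mem⟩, rfl⟩
    rw [← Subgroup.orderOf_mk _ hm]
    exact orderOf_dvd_natCard _

end CfsgLib.ClassSize.TwoRegular
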