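import Cfsg.Agent.Lib.ClassSize.TwoRegular.Omega
import Cfsg.Agent.Lib.ClassSize.TwoRegular.Quot

/-!
# No prime other than `p` divides the class size
-/

set_option autoImplicit false

namespace CfsgLib.ClassSize.TwoRegular

open Subgroup

variable {G : Type*} [Group G] [Finite G] {p : ℕ}

/-- The number theoretic contradiction. -/
theorem fermat_congr {C Q a b : ℕ} (hQodd : Odd Q) (hQ1 : 1 < Q) (hQle : 3 * Q ≤ 2 ^ C - 1)
    (h : (2 ^ a * Q : ℕ) ≡ 2 ^ b [MOD 2 ^ C + 1]) : False := by
  set r := 2 ^ C + 1 with hr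
  have hC : 0 < C := Nat.pos_of_ne_zero fun h0 => by subst h0; simp at hQle; omega
  have hQr : Q < r := by omega
  have h2 : ((2 : ZMod r)) ^ (2 * C) = 1 := by
    have : ((2 ^ C + 1 : ℕ) : ZMod r) = 0 := ZMod.natCast_self r
    push_cast at this
    rw [mul_comm, pow_mul, eq_neg_of_add_eq_zero_left this]; ring
  have h1 : (2 : ZMod r) ^ a * (Q : ZMod r) = 2 ^ b := by
    have := (ZMod.natCast_eq_natCast_iff _ _ r).2 h
    push_cast at this
    exact this
  obtain ⟨m, hm⟩ : ∃ m : ℕ, (Q : ZMod r) = 2 ^ m := by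
    refine ⟨a * (2 * C - 1) + b, ?_⟩
    rw [pow_add, ← h1, ← mul_assoc, ← pow_add, show a * (2 * C - 1) + a = (2 * C) * a by
      obtain ⟨d, hd⟩ := Nat.exists_eq_add_of_le (show 1 ≤ 2 * C by omega)
      rw [hd]; simp; ring, pow_mul, h2, one_pow, one_mul]
  rw [pow_eq_pow_mod m h2] at hm
  set m' := m % (2 * C) with hm'
  have hm'lt : m' < 2 * C := Nat.mod_lt _ (by omega)
  rcases Nat.lt_or_ge m' C with hlt | hge
  · have h3 : Q ≡ 2 ^ m' [MOD r] := (ZMod.natCast_eq_natCast_iff _ _ r).1 (by push_cast; exact hm)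
    have hlt' : 2 ^ m' < r := (Nat.pow_lt_pow_right one_lt_two hlt).trans (Nat.lt_succ_self _)
    have h4 := h3.eq_of_lt_of_lt hQr hlt'
    rcases Nat.eq_zero_or_pos m' with h0 | h0
    · rw [h0, pow_zero] at h4; omega
    · rw [h4] at hQodd
      exact Nat.not_even_iff_odd.2 hQodd (Nat.even_pow.2 ⟨even_two, h0.ne'⟩)
  · obtain ⟨j, hj⟩ := Nat.exists_eq_add_of_le hge
    have h3 : ((Q + 2 ^ j : ℕ) : ZMod r) = 0 := by
      have : ((2 ^ C + 1 : ℕ) : ZMod r) = 0 := ZMod.natCast_self r
      push_cast at this ⊢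
      rw [hm, hj, pow_add, eq_neg_of_add_eq_zero_left this]; ring
    have hd := (ZMod.natCast_eq_zero_iff _ _).1 h3
    have hj2 : 2 * 2 ^ j ≤ 2 ^ C := by
      rw [← pow_succ']; exact Nat.pow_le_pow_right two_pos (by omega)
    have := Nat.le_of_dvd (by omega) hd
    omega

theorem Div.of_dvd (hyp : Hyp G p) {s : ℕ} (hs : s.Prime) (hsp : s ≠ p) {x : G} (hx : (orderOf x).Coprime p)
    (hxZ : x ∉ center G) (h : s ∣ (cent x).index) : Div G p s :=
  ⟨hs, hsp, fun z hz hzZ => by rw [index_eq hyp hz hzZ hx hxZ]; exact h⟩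

/-- For the smallest prime the part is big. -/
theorem big_of_lt (hyp : Hyp G p) {q r : ℕ} (hq : Div G p q) (hr : Div G p r) (hqr : q < r)
    {x g : G} (F : Frame p q x g) : Big p q x := by
  by_contra hbig
  obtain ⟨-, -, -, h, -, hh⟩ := exists_sylow hyp hr F.reg F.not_center
  have hd := dvd_sub_one_of_zpowers hyp hq hr hqr.ne F.reg F.not_center hh F.mem_part F.not_center F.pow_left
    (exists_zpow_of_not_big hq.prime hbig F.mem_part F.not_center (conj_mem_part hh.mem F.mem_part))
  have := Nat.le_of_dvd (Nat.sub_pos_of_lt hq.prime.one_lt) hd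
  omega

theorem five_le_of_lt (hyp : Hyp G p) {q r : ℕ} (hq : Div G p q) (hr : Div G p r) (hqr : q < r)
    {x g : G} (F : Frame p q x g) : 5 ≤ q := by
  by_contra h5
  have hq2 := hq.prime.two_le
  have hq3 : q = 2 ∨ q = 3 := by
    have : q ≠ 4 := fun h => by
      have := hq.prime; rw [h] at this; norm_num at this
    omega
  obtain ⟨-, -, -, h, -, hh⟩ := exists_sylow hyp hr F.reg F.not_center
  have hmod := (card_omega_modEq hyp hq hr hqr.ne F.reg F.not_center hh)
  rcases card_omega hyp hq hq3 F with he | ⟨rfl, he⟩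
  · rw [he] at hmod
    have := hmod.eq_of_lt_of_lt hqr hr.prime.one_lt
    exact hq.prime.ne_one this
  · rw [he] at hmod
    have hd : r ∣ 9 - 1 := (Nat.modEq_iff_dvd' (by norm_num)).1 hmod.symm
    have h8 : r ∣ 2 := hr.prime.dvd_of_dvd_pow (show r ∣ 2 ^ 3 from hd)
    have := Nat.le_of_dvd two_pos h8
    omega

/-- Two or more primes other than `p` cannot divide the class size. -/
theorem false_of_many_primes (hyp : Hyp G p) {q1 q2 : ℕ} (h1 : Div G p q1) (h2 : Div G p q2) (h12 : q1 ≠ q2) :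
    False := by
  classical
  obtain ⟨r0, hr0, hr0p, -, u, k, huZ, hk⟩ := hyp.two 0
  have hu := orderOf_coprime_of_pow hyp.prime hr0 hr0p hk
  set D : Finset ℕ := (cent u).index.primeFactors.erase p with hD
  have hmem : ∀ s, s ∈ D ↔ Div G p s := fun s => by
    rw [hD, Finset.mem_erase, Nat.mem_primeFactors]
    exact ⟨fun h => Div.of_dvd hyp h.2.1 h.1 hu huZ h.2.2.1,
      fun h => ⟨h.ne, h.prime, h.dvd u hu huZ, index_ne_zero_of_finite⟩⟩
  have hne : D.Nonempty := ⟨q1, (hmem q1).2 h1⟩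
  set q := D.min' hne
  set r := D.max' hne
  have hq : Div G p q := (hmem q).1 (D.min'_mem hne)
  have hr : Div G p r := (hmem r).1 (D.max'_mem hne)
  have hmin : ∀ s, Div G p s → q ≤ s := fun s hs => D.min'_le s ((hmem s).2 hs)
  have hmax : ∀ s, Div G p s → s ≤ r := fun s hs => D.le_max' s ((hmem s).2 hs)
  have hqr : q < r := by
    have := hmin q1 h1; have := hmin q2 h2; have := hmax q1 h1; have := hmax q2 h2
    omega
  obtain ⟨x, g, -, F⟩ := exists_frame hyp hq hu huZ
  have hbig := big_of_lt hyp hq hr hqr F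
  have h5 := five_le_of_lt hyp hq hr hqr F
  have hD5 : ∀ s, Div G p s → 5 ≤ s := fun s hs => h5.trans (hmin s hs)
  have hp2 : p = 2 := by
    by_contra hp2
    obtain ⟨-, -, -, hd2, -⟩ := exists_torus hyp hq Nat.prime_two (Ne.symm hp2) (by
      have := hq.prime.odd_of_ne_two (by omega)
      obtain ⟨t, ht⟩ := this
      exact ⟨t, by omega⟩) F hbig
    have := hD5 2 hd2
    omega
  have hw3 := exists_three hyp hq F hbig
  have hnp : ∀ (s t : ℕ), Div G p s → Div G p t → s ≠ t → ∀ {y : G}, (orderOf y).Coprime p → y ∉ center G →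
      ∀ (a b : G) (μ : ℕ), Out p s y a → Out p t y b → a * b * a⁻¹ * (b ^ μ)⁻¹ ∉ cent y :=
    fun s t hs ht hst y hy hyZ a b μ ha hb => not_pair hyp hs ht hst Nat.prime_three (by omega)
      (by have := hD5 s hs; omega) (by have := hD5 t ht; omega) hw3 hy hyZ ha hb μ
  haveI := cent_subgroupOf_normal (p := p) F.reg
  -- all parts are big
  have hbig' : ∀ s, Div G p s → Big p s x := by
    intro s hs
    by_contra hsmall
    obtain ⟨t, ht, hts⟩ : ∃ t, Div G p t ∧ t ≠ s := by
      by_cases h : q = s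
      · exact ⟨r, hr, by omega⟩
      · exact ⟨q, hq, h⟩
    obtain ⟨R, hR⟩ := exists_dvd_card_normalizer hyp ht hs hts F.reg F.not_center hsmall
    exact not_dvd_card_normalizer hyp F.reg F.not_center ht hs hts (hnp t s ht hs hts F.reg F.not_center) R hR
  -- every prime is a Fermat prime
  have hfermat : ∀ s, Div G p s → ∃ l, s = 2 ^ 2 ^ l + 1 := by
    intro s hs
    obtain ⟨y, h, hy, F'⟩ := exists_frame hyp hs F.reg F.not_center
    have hbig'' : Big p s y := (big_iff hyp hs.prime hs.ne F'.reg F'.not_center F.reg F.not_center).2 (hbig' s hs)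
    have hpow : ∀ {d : ℕ}, d.Prime → d ∣ s - 1 → d = 2 := by
      intro d hd hds
      by_contra hd2
      obtain ⟨w, μ, hw, hdd, hc⟩ := exists_torus hyp hs hd (by omega) hds F' hbig''
      have hds' : d ≠ s := fun e => by
        have := Nat.le_of_dvd (Nat.sub_pos_of_lt hs.prime.one_lt) hds
        have := hs.prime.one_lt
        omega
      exact hnp d s hdd hs hds' F'.reg F'.not_center w h μ hw F'.out hc
    have h5s := hD5 s hs
    obtain ⟨e, he⟩ : ∃ e, s - 1 = 2 ^ e :=
      ⟨_, Nat.eq_prime_pow_of_unique_prime_dvd (by omega) fun {d} hd hds => hpow hd hds⟩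
    have hse : s = 2 ^ e + 1 := by omega
    have he0 : e ≠ 0 := fun h0 => by rw [h0] at hse; omega
    obtain ⟨l, hl⟩ := Nat.pow_of_pow_add_prime one_lt_two he0 (hse ▸ hs.prime)
    exact ⟨l, by rw [hse, hl]⟩
  -- the automizer
  set N := hallNormalizer p x
  set C := (cent x).subgroupOf N
  set K := N ⧸ C
  have hfac : ∀ s : ℕ, s.Prime → s ≠ p →
      (Nat.card K).factorization s ≤ 1 ∧ (s ∣ Nat.card K ↔ Div G p s) :=
    fun s hs hsp => factorization_quot hyp F.reg F.not_center hs hsp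
  haveI := Fact.mk hr.prime
  obtain ⟨R⟩ := (inferInstance : Nonempty (Sylow r K))
  set M := normalizer ((R : Subgroup K) : Set K)
  have hM : ∀ s : ℕ, s.Prime → s ≠ p → s ≠ r → ¬ s ∣ Nat.card M := by
    intro s hs hsp hsr hd
    have hsd := (hfac s hs hsp).2.1 (hd.trans (card_subgroup_dvd_card M))
    exact not_dvd_card_normalizer hyp F.reg F.not_center hsd hr hsr
      (hnp s r hsd hr hsr F.reg F.not_center) R hd
  have hmod := card_sylow_modEq_one r K
  rw [Sylow.card_eq_index_normalizer R] at hmod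
  set Q := ∏ s ∈ D.erase r, s with hQ
  have hQ0 : Q ≠ 0 := Finset.prod_ne_zero_iff.2 fun s hs => ((hmem s).1 (Finset.mem_of_mem_erase hs)).prime.ne_zero
  have hrM : ¬ r ∣ M.index := fun hd => R.not_dvd_index (hd.trans (index_dvd_of_le le_normalizer))
  -- `|K : M|` is a power of two times the other primes
  have hQdvd : Q ∣ M.index := by
    refine Finset.prod_primes_dvd _ (fun s hs => ((hmem s).1 (Finset.mem_of_mem_erase hs)).prime.prime) fun s hs => ?_
    have hsd := (hmem s).1 (Finset.mem_of_mem_erase hs)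
    have hk := ((hfac s hsd.prime hsd.ne).2.2 hsd)
    rw [← M.card_mul_index] at hk
    exact (hsd.prime.dvd_mul.1 hk).resolve_left (hM s hsd.prime hsd.ne (Finset.ne_of_mem_erase hs))
  obtain ⟨m, hm⟩ := hQdvd
  have hm0 : m ≠ 0 := fun h0 => index_ne_zero_of_finite (hm.trans (by rw [h0, mul_zero]))
  have hm2 : m = 2 ^ m.primeFactorsList.length := Nat.eq_prime_pow_of_unique_prime_dvd hm0 fun {s} hs hsm => by
    by_contra hs2
    have hsp : s ≠ p := by omega
    have hsK : s ∣ Nat.card K := by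
      rw [← M.card_mul_index, hm]; exact (hsm.mul_left Q).mul_left _
    have hsd := (hfac s hs hsp).2.1 hsK
    by_cases hsr : s = r
    · exact hrM (hm ▸ (hsr ▸ hsm).mul_left Q)
    · have h2 : s ^ 2 ∣ Nat.card K := by
        rw [← M.card_mul_index, hm, pow_two]
        exact (mul_dvd_mul (Finset.dvd_prod_of_mem _ (Finset.mem_erase.2 ⟨hsr, (hmem s).2 hsd⟩)) hsm).mul_left _
      have := (hs.pow_dvd_iff_le_factorization Nat.card_pos.ne').1 h2
      have := (hfac s hs hsp).1
      omega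
  obtain ⟨l, hl⟩ := hfermat r hr
  have hQodd : Odd Q := by
    rw [hQ]
    refine Finset.prod_induction _ Odd (fun a b ha hb => ha.mul hb) odd_one fun s hs => ?_
    have hsd := (hmem s).1 (Finset.mem_of_mem_erase hs)
    exact hsd.prime.odd_of_ne_two (by have := hD5 s hsd; omega)
  have hQ1 : 1 < Q := by
    have hd : q ∣ Q := Finset.dvd_prod_of_mem _ (Finset.mem_erase.2 ⟨hqr.ne, (hmem q).2 hq⟩)
    have := Nat.le_of_dvd (Nat.pos_of_ne_zero hQ0) hd
    omega
  have hQle : 3 * Q ≤ 2 ^ 2 ^ l - 1 := by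
    have hpos : 0 < 2 ^ 2 ^ l - 1 := Nat.sub_pos_of_lt (Nat.one_lt_pow (pow_ne_zero l two_ne_zero) one_lt_two)
    have h3 : 3 ∉ D.erase r := fun h => by
      have := hD5 3 ((hmem 3).1 (Finset.mem_of_mem_erase h)); omega
    refine Nat.le_of_dvd hpos ?_
    rw [hQ, ← Finset.prod_insert (f := fun s => s) h3]
    refine Finset.prod_primes_dvd _ (fun s hs => ?_) fun s hs => ?_
    · rcases Finset.mem_insert.1 hs with rfl | hs
      · exact Nat.prime_three.prime
      · exact ((hmem s).1 (Finset.mem_of_mem_erase hs)).prime.prime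
    · rcases Finset.mem_insert.1 hs with rfl | hs
      · have hl0 : l ≠ 0 := fun h0 => by
          subst h0; have := hD5 r hr; norm_num at hl; omega
        have : 2 ^ 2 - 1 ∣ 2 ^ 2 ^ l - 1 := Nat.pow_sub_one_dvd_pow_sub_one 2 (dvd_pow_self 2 hl0)
        simpa using this
      · have hsd := (hmem s).1 (Finset.mem_of_mem_erase hs)
        obtain ⟨j, hj⟩ := hfermat s hsd
        have hsr : s < r := (hmax s hsd).lt_of_ne (Finset.ne_of_mem_erase hs)
        have hjl : j < l := by
          by_contra hle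
          push Not at hle
          have := Nat.pow_le_pow_right two_pos (Nat.pow_le_pow_right two_pos hle)
          omega
        refine dvd_trans ?_ (Nat.pow_sub_one_dvd_pow_sub_one 2 (pow_dvd_pow 2 (Nat.succ_le_of_lt hjl)))
        refine ⟨2 ^ 2 ^ j - 1, ?_⟩
        rw [hj, ← Nat.sq_sub_sq, one_pow, ← pow_mul, ← pow_succ]
  refine fermat_congr (C := 2 ^ l) (Q := Q) (a := m.primeFactorsList.length) (b := 0) hQodd hQ1 hQle ?_
  rw [← hl, pow_zero, ← hm2, mul_comm, ← hm]
  exact hmod

end CfsgLib.ClassSize.TwoRegular
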