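import Mathlib

/-!
# Norms over a family of conjugate operators
-/

set_option autoImplicit false

namespace CfsgLib.ClassSize.TwoRegular

open Finset

variable {V : Type*} [CommGroup V]

theorem map_prod_orbit_eq (s : MulAut V) {r : ℕ} (hs : s ^ r = 1) (v : V) :
    s (∏ i ∈ range r, (s ^ i) v) = ∏ i ∈ range r, (s ^ i) v := by
  rw [map_prod]
  rcases Nat.eq_zero_or_pos r with rfl | hr
  · simp
  obtain ⟨r, rfl⟩ := Nat.exists_eq_succ_of_ne_zero hr.ne'
  conv_rhs => rw [prod_range_succ']
  rw [prod_range_succ]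
  congr 1
  · refine prod_congr rfl fun i _ => ?_
    rw [pow_succ', MulAut.mul_apply]
  · rw [← MulAut.mul_apply, ← pow_succ', Nat.succ_eq_add_one] at *
    simp [hs]

/-- If the fixed points of `s` and of the operators `u k` lie in `W`, and `u k ^ i = t ^ i * s ^ (a i * k)`
with `a i` prime to `r` for `0 < i < q`, then `r`-th powers lie in `W`. -/
theorem pow_mem_of_norms (W : Subgroup V) {q r : ℕ} (hr : r.Prime) (hq : 0 < q) (t s : MulAut V)
    (hWt : ∀ w ∈ W, t w ∈ W) (u : ℕ → MulAut V) (a : ℕ → ℕ) (hs : s ^ r = 1)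
    (ha : ∀ i, 0 < i → i < q → (a i).Coprime r) (hu : ∀ k < r, ∀ i < q, u k ^ i = t ^ i * s ^ (a i * k))
    (huq : ∀ k < r, u k ^ q = 1) (hufix : ∀ k < r, ∀ v, u k v = v → v ∈ W)
    (hsfix : ∀ v, s v = v → v ∈ W) (v : V) : v ^ r ∈ W := by
  classical
  have hWti : ∀ i : ℕ, ∀ w ∈ W, (t ^ i) w ∈ W := by
    intro i
    induction i with
    | zero => intro w hw; simpa using hw
    | succ i ih => intro w hw; rw [pow_succ', MulAut.mul_apply]; exact hWt _ (ih w hw)
  have hN : ∏ j ∈ range r, (s ^ j) v ∈ W := hsfix _ (map_prod_orbit_eq s hs v)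
  have hU : ∀ k < r, ∏ i ∈ range q, (u k ^ i) v ∈ W := fun k hk =>
    hufix k hk _ (map_prod_orbit_eq (u k) (huq k hk) v)
  have hall : (∏ k ∈ range r, ∏ i ∈ range q, (u k ^ i) v) ∈ W :=
    W.prod_mem fun k hk => hU k (mem_range.1 hk)
  rw [Finset.prod_comm] at hall
  have hrest : ∀ i, 0 < i → i < q → (∏ k ∈ range r, (u k ^ i) v) ∈ W := by
    intro i hi hiq
    have e : (∏ k ∈ range r, (u k ^ i) v) = (t ^ i) (∏ j ∈ range r, (s ^ j) v) := by
      rw [map_prod]
      calc (∏ k ∈ range r, (u k ^ i) v) = ∏ k ∈ range r, (t ^ i) ((s ^ ((a i * k) % r)) v) :=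
            prod_congr rfl fun k hk => by
              rw [hu k (mem_range.1 hk) i hiq, MulAut.mul_apply, ← pow_eq_pow_mod _ hs]
        _ = ∏ j ∈ (range r).image (fun k => (a i * k) % r), (t ^ i) ((s ^ j) v) := by
            rw [prod_image]
            intro k hk l hl hkl
            have h1 : a i * k ≡ a i * l [MOD r] := hkl
            have h2 : k ≡ l [MOD r] := Nat.ModEq.cancel_left_of_coprime (ha i hi hiq).symm h1
            exact h2.eq_of_lt_of_lt (mem_range.1 hk) (mem_range.1 hl)
        _ = _ := by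
            congr 1
            refine eq_of_subset_of_card_le (fun j hj => ?_) ?_
            · obtain ⟨k, -, rfl⟩ := mem_image.1 hj
              exact mem_range.2 (Nat.mod_lt _ hr.pos)
            · rw [card_image_of_injOn]
              intro k hk l hl hkl
              have h2 : k ≡ l [MOD r] := Nat.ModEq.cancel_left_of_coprime (ha i hi hiq).symm hkl
              exact h2.eq_of_lt_of_lt (mem_range.1 hk) (mem_range.1 hl)
    rw [e]
    exact hWti i _ hN
  obtain ⟨q, rfl⟩ := Nat.exists_eq_succ_of_ne_zero hq.ne'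
  rw [prod_range_succ'] at hall
  simp only [pow_zero, MulAut.one_apply, prod_const, card_range] at hall
  exact (W.mul_mem_cancel_left (W.prod_mem fun i hi => hrest (i + 1) (Nat.succ_pos i)
    (Nat.succ_lt_succ (mem_range.1 hi)))).1 hall

end CfsgLib.ClassSize.TwoRegular
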