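import Cfsg.Agent.Lib.ClassSize.TwoRegular.Pairs

/-!
# The small primes
-/

set_option autoImplicit false

namespace CfsgLib.ClassSize.TwoRegular

open Subgroup

variable {G : Type*} [Group G] [Finite G] {p : ℕ}

/-- The elements of a part whose `q`-th power is central, modulo the centre. -/
def omega (p q : ℕ) (x : G) : Subgroup (G ⧸ center G) :=
  Subgroup.map (modZ : G →* G ⧸ center G)
    { carrier := {a | a ∈ part p q x ∧ a ^ q ∈ center G}
      one_mem' := ⟨one_mem _, by simp⟩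
      mul_mem' := fun {a b} ha hb => ⟨mul_mem ha.1 hb.1, by
        rw [(commute_hall ha.1.1 hb.1.1).mul_pow]; exact mul_mem ha.2 hb.2⟩
      inv_mem' := fun {a} ha => ⟨inv_mem ha.1, by rw [inv_pow]; exact inv_mem ha.2⟩ }

omit [Finite G] in
theorem mem_omega {q : ℕ} {x : G} {c : G ⧸ center G} :
    c ∈ omega p q x ↔ ∃ a : G, (a ∈ part p q x ∧ a ^ q ∈ center G) ∧ modZ a = c := Iff.rfl

omit [Finite G] in
theorem omega_pow_eq {q : ℕ} {x : G} {c : G ⧸ center G} (hc : c ∈ omega p q x) : c ^ q = 1 := by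
  obtain ⟨a, ⟨-, ha⟩, rfl⟩ := mem_omega.1 hc
  rw [← map_pow]; exact (QuotientGroup.eq_one_iff _).2 ha

theorem omega_fixed (hyp : Hyp G p) {q : ℕ} (hd : Div G p q) {x g : G} (F : Frame p q x g) {c : G ⧸ center G}
    (hc : c ∈ omega p q x) (hfix : modZ g * c * (modZ g)⁻¹ = c) : c ∈ zpowers (modZ x) := by
  obtain ⟨a, ⟨ha, -⟩, rfl⟩ := mem_omega.1 hc
  have hz : g * a * g⁻¹ * a⁻¹ ∈ center G := by
    rw [← QuotientGroup.eq_one_iff]
    change modZ (g * a * g⁻¹ * a⁻¹) = 1
    rw [map_mul, map_mul, map_mul, map_inv, map_inv, hfix, mul_inv_cancel]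
  obtain ⟨m, hm⟩ := F.out.fixed_unique hyp hd F.reg F.not_center F.mem_part F.not_center F.comm ha hz
  refine ⟨m, ?_⟩
  show modZ x ^ m = modZ a
  rw [← map_zpow]; exact QuotientGroup.eq.2 hm

/-- The relation `(g a) ^ q ∈ Z(G)`. -/
theorem mul_pow_modZ (hyp : Hyp G p) {q : ℕ} (hd : Div G p q) {x g : G} (F : Frame p q x g) {c : G ⧸ center G}
    (hc : c ∈ omega p q x) : (modZ g * c) ^ q = 1 := by
  haveI := Fact.mk hd.prime
  obtain ⟨a, ⟨ha, -⟩, rfl⟩ := mem_omega.1 hc
  obtain ⟨k, hk⟩ := F.out.pow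
  obtain ⟨l, -, hl⟩ := (Nat.dvd_prime_pow hd.prime).1 (orderOf_dvd_of_pow_eq_one hk)
  have hP : IsPGroup q (zpowers g ⊔ part p q x : Subgroup G) :=
    isPGroup_sup_part (IsPGroup.of_card (n := l) (by rw [Nat.card_zpowers, hl])) (zpowers_le.2 F.out.mem)
  obtain ⟨j, hj⟩ := hP ⟨g * a, mul_mem (mem_sup_left (mem_zpowers g)) (mem_sup_right ha)⟩
  have hax : a ∈ cent x := hall_le_cent p x ha.1
  have hne : g * a ∉ cent x := fun h => F.out.not_mem (by
    have := mul_mem h (inv_mem hax); rwa [mul_inv_cancel_right] at this)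
  have hz : g * a * x * (g * a)⁻¹ * x⁻¹ ∈ center G := by
    rw [show g * a * x * (g * a)⁻¹ = g * (a * x * a⁻¹) * g⁻¹ by group, (mem_cent.1 hax).eq, mul_inv_cancel_right]
    exact F.comm
  have h1 := (pow_prime_mem hyp hd.prime hd.ne F.mem_part.2 F.not_center ⟨j, congrArg Subtype.val hj⟩ hne hz).1
  rw [← map_mul, ← map_pow]; exact (QuotientGroup.eq_one_iff _).2 h1

theorem omega_conj_mem {q : ℕ} {x g : G} (hg : g ∈ normalizer (hall p x : Set G)) {c : G ⧸ center G}
    (hc : c ∈ omega p q x) : modZ g * c * (modZ g)⁻¹ ∈ omega p q x := by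
  obtain ⟨a, ⟨ha, haq⟩, rfl⟩ := mem_omega.1 hc
  refine mem_omega.2 ⟨g * a * g⁻¹, ⟨conj_mem_part hg ha, ?_⟩, by rw [map_mul, map_mul, map_inv]⟩
  rw [conj_pow]
  exact (inferInstance : (center G).Normal).conj_mem _ haq g

/-- For `q ≤ 3` the group `omega` is small. -/
theorem card_omega (hyp : Hyp G p) {q : ℕ} (hd : Div G p q) (hq3 : q = 2 ∨ q = 3) {x g : G}
    (F : Frame p q x g) : Nat.card (omega p q x) = q ∨ (q = 3 ∧ Nat.card (omega p q x) = 9) := by
  haveI := Fact.mk hd.prime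
  set Om := omega p q x
  set X := modZ x
  set Y := modZ g
  have hXm : X ∈ Om := mem_omega.2 ⟨x, ⟨F.mem_part, F.pow_left⟩, rfl⟩
  have hX : orderOf X = q := orderOf_mk_center F.not_center F.pow_left
  have hcomm : ∀ a b : Om, Commute (a : G ⧸ center G) b := fun a b => by
    obtain ⟨a', ⟨ha', -⟩, ea⟩ := mem_omega.1 a.2
    obtain ⟨b', ⟨hb', -⟩, eb⟩ := mem_omega.1 b.2
    rw [← ea, ← eb]; exact (commute_hall ha'.1 hb'.1).map _
  have hY : Y ^ q = 1 := F.pow_q.2
  let D : Om →* G ⧸ center G :=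
    { toFun := fun c => Y * c * Y⁻¹ * (c : G ⧸ center G)⁻¹
      map_one' := by simp
      map_mul' := fun a b => by
        have h1 : Commute (Y * (b : G ⧸ center G) * Y⁻¹) (a : G ⧸ center G)⁻¹ :=
          (hcomm ⟨_, omega_conj_mem F.out.mem b.2⟩ a).inv_right
        calc Y * ↑(a * b) * Y⁻¹ * (↑(a * b))⁻¹
            = (Y * a * Y⁻¹) * ((Y * b * Y⁻¹) * ((b : G ⧸ center G)⁻¹ * (a : G ⧸ center G)⁻¹)) := by push_cast; group
          _ = (Y * a * Y⁻¹) * ((Y * b * Y⁻¹) * ((a : G ⧸ center G)⁻¹ * (b : G ⧸ center G)⁻¹)) := by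
              rw [((hcomm b a).inv_inv).eq]
          _ = (Y * a * Y⁻¹) * ((a : G ⧸ center G)⁻¹ * ((Y * b * Y⁻¹) * (b : G ⧸ center G)⁻¹)) := by
              rw [← mul_assoc (Y * b * Y⁻¹), h1.eq]; group
          _ = _ := by group }
  have hker : Nat.card D.ker ≤ q := by
    rw [← hX, ← Nat.card_zpowers]
    refine Nat.card_le_card_of_injective (fun c => ⟨((c : Om) : G ⧸ center G), omega_fixed hyp hd F c.1.2 ?_⟩) ?_
    · have h : Y * ((c : Om) : G ⧸ center G) * Y⁻¹ * ((c : Om) : G ⧸ center G)⁻¹ = 1 := c.2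
      exact mul_inv_eq_one.1 h
    · intro a b hab
      exact Subtype.ext (Subtype.ext (congrArg (fun t : zpowers X => (t : G ⧸ center G)) hab))
  have hran : Nat.card D.range ≤ q ∧ (q = 2 → Nat.card D.range ≤ 1) := by
    have key : ∀ c : Om, (q = 2 → D c = 1) ∧ (q = 3 → D c ∈ zpowers X) := by
      intro c
      have h1 := mul_pow_modZ hyp hd F c.2
      have hcq := omega_pow_eq c.2
      constructor
      · rintro rfl
        show Y * c * Y⁻¹ * (c : G ⧸ center G)⁻¹ = 1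
        rw [pow_two] at h1 hY hcq
        rw [inv_eq_of_mul_eq_one_right hY, inv_eq_of_mul_eq_one_right hcq]
        rw [mul_assoc (Y * _)]; exact h1
      · rintro rfl
        set c1 : G ⧸ center G := Y * c * Y⁻¹
        set c2 : G ⧸ center G := Y * c1 * Y⁻¹
        have hc1 : c1 ∈ Om := omega_conj_mem F.out.mem c.2
        have hc2 : c2 ∈ Om := omega_conj_mem F.out.mem hc1
        have hD : D c ∈ Om := mul_mem hc1 (inv_mem c.2)
        have h2 : c1 * c2 * (c : G ⧸ center G) = 1 := by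
          calc c1 * c2 * (c : G ⧸ center G)
              = Y * c * Y * c * (Y⁻¹ * Y⁻¹) * c := by simp only [c1, c2]; group
            _ = Y * c * Y * c * Y * c := by
                rw [show Y⁻¹ * Y⁻¹ = Y by rw [← mul_inv_rev, inv_eq_iff_mul_eq_one, ← hY, pow_succ, pow_two]]
            _ = 1 := by rw [← h1, pow_succ, pow_two]; group; rfl
        refine omega_fixed hyp hd F hD ?_
        show Y * (c1 * (c : G ⧸ center G)⁻¹) * Y⁻¹ = c1 * (c : G ⧸ center G)⁻¹
        rw [show Y * (c1 * (c : G ⧸ center G)⁻¹) * Y⁻¹ = c2 * c1⁻¹ by simp only [c1, c2]; group]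
        have e2 : c2 = c1⁻¹ * (c : G ⧸ center G)⁻¹ := by
          have h3 : c1 * c2 = (c : G ⧸ center G)⁻¹ := eq_inv_of_mul_eq_one_left h2
          rw [← h3, inv_mul_cancel_left]
        have hcc : Commute c1 (c : G ⧸ center G) := hcomm ⟨c1, hc1⟩ c
        have hc13 : c1⁻¹ * c1⁻¹ = c1 := by
          rw [← mul_inv_rev, inv_eq_iff_mul_eq_one, ← omega_pow_eq hc1, pow_succ, pow_two]
        rw [e2, mul_assoc, ← (hcc.inv_inv).eq, ← mul_assoc, hc13]
    constructor
    · rcases hq3 with rfl | rfl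
      · refine le_trans ?_ one_le_two
        rw [show D.range = ⊥ from (eq_bot_iff.2 fun _ ⟨c, hc⟩ => hc ▸ mem_bot.2 ((key c).1 rfl)), card_bot]
      · rw [← hX, ← Nat.card_zpowers]
        exact Nat.le_of_dvd Nat.card_pos (card_dvd_of_le fun _ ⟨c, hc⟩ => hc ▸ (key c).2 rfl)
    · intro h2
      rw [show D.range = ⊥ from (eq_bot_iff.2 fun _ ⟨c, hc⟩ => hc ▸ mem_bot.2 ((key c).1 h2)), card_bot]
  have hcard : Nat.card Om = Nat.card D.ker * Nat.card D.range := by
    rw [← index_ker, card_mul_index]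
  have hge : q ≤ Nat.card Om := by
    rw [← hX, ← Nat.card_zpowers]
    exact Nat.le_of_dvd Nat.card_pos (card_dvd_of_le (zpowers_le.2 hXm))
  have hp : IsPGroup q Om := fun c => ⟨1, Subtype.ext (by push_cast; rw [pow_one]; exact omega_pow_eq c.2)⟩
  obtain ⟨e, he⟩ := IsPGroup.iff_card.1 hp
  rcases hq3 with rfl | rfl
  · left
    have := hran.2 rfl
    nlinarith
  · have h9 : Nat.card Om ≤ 3 ^ 2 := by rw [hcard]; exact (Nat.mul_le_mul hker hran.1).trans (le_of_eq (by norm_num))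
    rw [he] at hge h9 ⊢
    have : e ≤ 2 := (Nat.pow_le_pow_iff_right (by norm_num)).1 h9
    interval_cases e <;> first | omega | simp

/-- An outer element of another prime acts without fixed points on `omega`. -/
theorem card_omega_modEq (hyp : Hyp G p) {q r : ℕ} (hd : Div G p q) (hr : Div G p r) (hqr : q ≠ r) {x h : G}
    (hx : (orderOf x).Coprime p) (hxZ : x ∉ center G) (hh : Out p r x h) :
    Nat.card (omega p q x) ≡ 1 [MOD r] := by
  haveI := Fact.mk hr.prime
  set Om := omega p q x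
  have hN : modZ h ∈ normalizer (Om : Set (G ⧸ center G)) := by
    rw [mem_normalizer_iff]
    refine fun c => ⟨fun hc => omega_conj_mem hh.mem hc, fun hc => ?_⟩
    have := omega_conj_mem (inv_mem hh.mem) hc
    simpa [mul_assoc] using this
  set φ := normalizerMonoidHom Om ⟨modZ h, hN⟩
  obtain ⟨k, hk⟩ := hh.pow
  have hφk : φ ^ r ^ k = 1 := by
    rw [← map_pow]
    convert map_one (normalizerMonoidHom Om)
    exact Subtype.ext (by push_cast; rw [← map_pow, hk, map_one])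
  obtain ⟨i, -, hi⟩ := (Nat.dvd_prime_pow hr.prime).1 (orderOf_dvd_of_pow_eq_one hφk)
  have hP : IsPGroup r (zpowers φ) := IsPGroup.of_card (n := i) (by rw [Nat.card_zpowers, hi])
  have hfix : MulAction.fixedPoints (zpowers φ) Om = {1} := by
    ext c
    rw [Set.mem_singleton_iff, MulAction.mem_fixedPoints]
    refine ⟨fun hc => ?_, fun hc y => by subst hc; exact map_one (y : MulAut Om)⟩
    have h1 : φ c = c := hc ⟨φ, mem_zpowers φ⟩
    have h2 : modZ h * (c : G ⧸ center G) * (modZ h)⁻¹ = c := congrArg Subtype.val h1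
    obtain ⟨a, ⟨ha, -⟩, hac⟩ := mem_omega.1 c.2
    refine Subtype.ext ?_
    rw [← hac]
    refine (QuotientGroup.eq_one_iff a).2 (hh.fpf hyp hr.prime hd.prime hqr hx hxZ ha ?_)
    rw [← QuotientGroup.eq_one_iff]
    change modZ (h * a * h⁻¹ * a⁻¹) = 1
    rw [map_mul, map_mul, map_mul, map_inv, map_inv, hac, h2, mul_inv_cancel]
  have := hP.card_modEq_card_fixedPoints Om
  rwa [hfix, Nat.card_coe_set_eq, Set.ncard_singleton] at this

end CfsgLib.ClassSize.TwoRegular
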