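import Cfsg.Agent.Lib.ClassSize.TwoRegular.Frame
import Cfsg.Agent.Lib.Solvable.CoprimeAction
import Cfsg.Agent.Lib.Solvable.Core
import Cfsg.Agent.Lib.Char.Burnside

/-!
# A single prime other than `p` cannot divide the class size
-/

set_option autoImplicit false

namespace CfsgLib.ClassSize.TwoRegular

open Subgroup
open scoped Pointwise

variable {G : Type*} [Group G] [Finite G] {p : ℕ}

omit [Finite G] in
/-- In a group with no proper non-trivial invariant normal subgroup, an element with prime power class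
makes the group commutative. -/
theorem isMulCommutative_of_prime_pow_class {M : Type*} [Group M] [Finite M]
    (hmin : ∀ L : Subgroup M, L.Characteristic → L = ⊥ ∨ L = ⊤) {x : M} (hx : x ≠ 1) {s k : ℕ} (hs : s.Prime)
    (hk : (cent x).index ∣ s ^ k) : commutator M ≠ ⊤ := by
  intro hperf
  -- the intersection of the maximal normal subgroups is characteristic
  set K : Subgroup M := sInf {L : Subgroup M | L.Normal ∧ L ≠ ⊤ ∧ ∀ N : Subgroup M, N.Normal → L < N → N = ⊤}
  have hKchar : K.Characteristic := by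
    rw [characteristic_iff_le_comap]
    intro φ y hy
    rw [mem_comap]
    refine mem_sInf.2 fun L hL => ?_
    obtain ⟨hLn, hLt, hLm⟩ := hL
    have hsurj : Function.Surjective φ.toMonoidHom := φ.surjective
    have : y ∈ L.comap φ.toMonoidHom := mem_sInf.1 hy _ ⟨hLn.comap _, fun e => hLt (by
      rw [← map_comap_eq_self_of_surjective hsurj L, e, map_top_of_surjective _ hsurj]), fun N hN hlt => by
      have h1 : L < N.map φ.toMonoidHom := by
        rw [← map_comap_eq_self_of_surjective hsurj L]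
        exact (map_lt_map_iff_of_injective φ.injective).2 hlt
      have h2 := hLm _ (hN.map _ hsurj) h1
      rw [← comap_map_eq_self_of_injective (f := φ.toMonoidHom) φ.injective N, h2, comap_top]⟩
    exact this
  haveI : Nontrivial M := ⟨⟨x, 1, hx⟩⟩
  obtain ⟨L0, hL0, hmax0⟩ := Set.Finite.exists_maximalFor id {L : Subgroup M | L.Normal ∧ L ≠ ⊤} (Set.toFinite _)
    ⟨⊥, inferInstance, bot_ne_top⟩
  have hL0' : ∀ N : Subgroup M, N.Normal → L0 < N → N = ⊤ := fun N hN hlt => by
    by_contra hne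
    exact hlt.not_ge (hmax0 (j := N) ⟨hN, hne⟩ hlt.le)
  have hK : K = ⊥ := (hmin K hKchar).resolve_right fun e => hL0.2 (eq_top_iff.2 (e ▸ sInf_le ⟨hL0.1, hL0.2, hL0'⟩))
  obtain ⟨L, hL, hLt, hLm, hxL⟩ : ∃ L : Subgroup M, L.Normal ∧ L ≠ ⊤ ∧
      (∀ N : Subgroup M, N.Normal → L < N → N = ⊤) ∧ x ∉ L := by
    by_contra hno
    push Not at hno
    have : x ∈ K := mem_sInf.2 fun L hL => hno L hL.1 hL.2.1 hL.2.2
    rw [hK, mem_bot] at this
    exact hx this
  haveI := hL
  haveI : Nontrivial (M ⧸ L) := ⟨⟨(x : M ⧸ L), 1, fun e => hxL ((QuotientGroup.eq_one_iff x).1 e)⟩⟩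
  haveI : IsSimpleGroup (M ⧸ L) := ⟨fun N hN => by
    have hle : L ≤ N.comap (QuotientGroup.mk' L) := fun y hy => by
      rw [mem_comap, QuotientGroup.mk'_apply, (QuotientGroup.eq_one_iff y).2 hy]; exact one_mem _
    rcases hle.lt_or_eq with h | h
    · right
      have := hLm _ (hN.comap _) h
      rw [← map_comap_eq_self_of_surjective (QuotientGroup.mk'_surjective L) N, this,
        map_top_of_surjective _ (QuotientGroup.mk'_surjective L)]
    · left
      rw [← map_comap_eq_self_of_surjective (QuotientGroup.mk'_surjective L) N, ← h, Subgroup.map_eq_bot_iff,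
        QuotientGroup.ker_mk']⟩
  have hdvd : (cent (x : M ⧸ L)).index ∣ s ^ k := by
    refine (index_dvd_of_le ?_).trans ((index_map_dvd (cent x) (QuotientGroup.mk'_surjective L)).trans hk)
    rintro _ ⟨c, hc, rfl⟩
    exact mem_cent.2 ((mem_cent.1 hc).map (QuotientGroup.mk' L))
  obtain ⟨j, -, hj⟩ := (Nat.dvd_prime_pow hs).1 hdvd
  have hprime := CfsgLib.Char.card_prime_of_prime_pow_class s j hs (x : M ⧸ L)
    (fun e => hxL ((QuotientGroup.eq_one_iff x).1 e)) hj
  haveI := Fact.mk hprime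
  haveI : IsCyclic (M ⧸ L) := isCyclic_of_prime_card (p := Nat.card (M ⧸ L)) rfl
  have : commutator M ≤ L := Subgroup.Normal.quotient_commutative_iff_commutator_le.1
    ⟨⟨fun a b => IsMulCommutative.is_comm.comm a b⟩⟩
  exact hLt (eq_top_iff.2 (hperf ▸ this))

/-- For a prime not dividing the class size every part is a Sylow subgroup. -/
theorem not_dvd_index_part (hyp : Hyp G p) {r : ℕ} (hr : r.Prime) (hrp : r ≠ p) {x : G}
    (hx : (orderOf x).Coprime p) (hxZ : x ∉ center G) (h : ¬ r ∣ (cent x).index) :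
    ¬ r ∣ (part p r x).index := by
  intro hd
  have h1 := (part p r x).card_mul_index
  have h2 := (cent x).card_mul_index
  have hc := congrArg (fun n => n.factorization r) (h1.trans h2.symm)
  simp only [card_part hyp hr hrp hx hxZ] at hc
  rw [Nat.factorization_mul (pow_ne_zero _ hr.ne_zero) index_ne_zero_of_finite,
    Nat.factorization_mul Nat.card_pos.ne' index_ne_zero_of_finite, Finsupp.add_apply, Finsupp.add_apply,
    hr.factorization_pow, Finsupp.single_eq_same, Nat.factorization_eq_zero_of_not_dvd h] at hc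
  have := hr.factorization_pos_of_dvd index_ne_zero_of_finite hd
  omega

/-- In a normal subgroup of order prime to `q`, the elements of another prime are central. -/
theorem mem_center_of_coprime_normal (hyp : Hyp G p) {q r : ℕ} (hq : Div G p q) (hr : r.Prime) (hrp : r ≠ p)
    (hrn : ∀ x : G, (orderOf x).Coprime p → x ∉ center G → ¬ r ∣ (cent x).index) {x g : G}
    (F : Frame p q x g) (N : Subgroup G) [N.Normal] (hN : (Nat.card N).Coprime q) {u : G} (hu : u ∈ N)
    (hur : ∃ k : ℕ, u ^ r ^ k = 1) : u ∈ center G := by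
  haveI := Fact.mk hr
  haveI := Fact.mk hq.prime
  set A := zpowers g ⊔ zpowers x
  have hAle : A ≤ zpowers g ⊔ part p q x := sup_le_sup_left (zpowers_le.2 F.mem_part) _
  obtain ⟨k, hk⟩ := F.out.pow
  obtain ⟨i, -, hi⟩ := (Nat.dvd_prime_pow hq.prime).1 (orderOf_dvd_of_pow_eq_one hk)
  have hAp : IsPGroup q A := (isPGroup_sup_part (IsPGroup.of_card (n := i) (by rw [Nat.card_zpowers, hi]))
    (zpowers_le.2 F.out.mem)).to_le hAle
  haveI := hAp.isNilpotent
  have hcop : (Nat.card A).Coprime (Nat.card N) := by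
    obtain ⟨j, hj⟩ := IsPGroup.iff_card.1 hAp
    rw [hj]; exact Nat.Coprime.pow_left j hN.symm
  have hxN : x ∈ normalizer (hall p x : Set G) := le_normalizer (mem_hall_self F.reg)
  have hgN : g ∈ normalizer (hall p g : Set G) := le_normalizer (mem_hall_self (F.out.coprime hyp hq))
  have mk : ∀ y : G, (orderOf y).Coprime p → y ∉ center G → ∃ S : Sylow r N,
      (S : Subgroup N) = (part p r y).subgroupOf N := fun y hy hyZ => by
    have hp : IsPGroup r ((part p r y).subgroupOf N) := (part_isPGroup p r y).comap_of_injective _ N.subtype_injective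
    refine ⟨hp.toSylow (fun hd => not_dvd_index_part hyp hr hrp hy hyZ (hrn y hy hyZ)
      (hd.trans (CfsgLib.PGroup.relIndex_dvd_index_normal_right (part p r y) N))), rfl⟩
  obtain ⟨Sx, hSx⟩ := mk x F.reg F.not_center
  obtain ⟨Sg, hSg⟩ := mk g (F.out.coprime hyp hq) F.out.not_center
  have hinv : ∀ y : G, ∀ S : Sylow r N, (S : Subgroup N) = (part p r y).subgroupOf N →
      g ∈ normalizer (hall p y : Set G) → x ∈ normalizer (hall p y : Set G) →
      A ≤ normalizer (((S : Subgroup N).map N.subtype : Subgroup G) : Set G) := by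
    intro y S hS hg hx
    rw [hS, subgroupOf_map_subtype]
    have key : ∀ c : G, c ∈ normalizer (hall p y : Set G) → c ∈ normalizer ((part p r y ⊓ N : Subgroup G) : Set G) :=
      fun c hc => inf_normalizer_le_normalizer_inf ⟨mem_normalizer_part hc, normalizer_eq_top N ▸ mem_top c⟩
    exact sup_le (zpowers_le.2 (key g hg)) (zpowers_le.2 (key x hx))
  obtain ⟨c, hc, hcS⟩ := CfsgLib.Solvable.exists_invariant_sylow_conj (A := A) (K := N)
    (by rw [normalizer_eq_top]; exact le_top) hcop (Or.inl inferInstance) Sx Sg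
    (hinv x Sx hSx F.out.mem hxN) (hinv g Sg hSg hgN F.out'.mem)
  have hcx : (c : G) ∈ cent x := mem_cent.2 (mem_centralizer_iff.1 hc x (mem_sup_right (mem_zpowers x))).symm
  have hcN : (c : G) ∈ normalizer (hall p x : Set G) :=
    mem_normalizer_hall hyp F.reg F.not_center (mem_hall_self F.reg) F.not_center (by
      rw [(mem_cent.1 hcx).eq, mul_inv_cancel_right]; exact mem_hall_self F.reg)
  have hmem : ∀ v : N, v ∈ (Sg : Subgroup N) → (v : G) ∈ center G := by
    intro v hv
    have h1 : (v : G) ∈ part p r g := by rw [hSg] at hv; exact hv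
    have hv' : v ∈ MulAut.conj c • (Sx : Subgroup N) := by rw [← hcS] at hv; exact hv
    rw [Subgroup.mem_pointwise_smul_iff_inv_smul_mem] at hv'
    have h2 : (c : G)⁻¹ * v * (c : G) ∈ part p r x := by
      rw [hSx] at hv'
      have h3 := mem_subgroupOf.1 hv'
      simpa [MulAut.smul_def, mul_assoc] using h3
    have h4 := conj_mem_part hcN h2
    rw [show (c : G) * ((c : G)⁻¹ * v * (c : G)) * (c : G)⁻¹ = v by group] at h4
    by_contra hvZ
    exact F.out.not_mem (by
      rw [cent_eq_of_mem_hall₂ hyp F.reg F.not_center (F.out.coprime hyp hq) F.out.not_center h4.1 h1.1 hvZ]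
      exact mem_cent.2 (Commute.refl g))
  obtain ⟨j, hj⟩ := hur
  have hup : IsPGroup r (zpowers (⟨u, hu⟩ : N)) := by
    obtain ⟨i, -, hi⟩ := (Nat.dvd_prime_pow hr).1
      (orderOf_dvd_of_pow_eq_one (show (⟨u, hu⟩ : N) ^ r ^ j = 1 from Subtype.ext hj))
    exact IsPGroup.of_card (n := i) (by rw [Nat.card_zpowers, hi])
  obtain ⟨S, hS⟩ := hup.exists_le_sylow
  obtain ⟨d, hd⟩ := MulAction.exists_smul_eq N Sg S
  have h5 : (⟨u, hu⟩ : N) ∈ MulAut.conj d • (Sg : Subgroup N) := by
    have := hS (mem_zpowers _)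
    rw [← hd] at this
    exact this
  rw [Subgroup.mem_pointwise_smul_iff_inv_smul_mem] at h5
  have h6 := hmem _ h5
  have h7 := (inferInstance : (center G).Normal).conj_mem _ h6 (d : G)
  simpa [MulAut.smul_def, mul_assoc] using h7

/-- One prime other than `p` cannot be the only one dividing the class size. -/
theorem false_of_one_prime (hyp : Hyp G p) {q : ℕ} (hq : Div G p q) (honly : ∀ s, Div G p s → s = q) :
    False := by
  haveI := Fact.mk hq.prime
  obtain ⟨r, hr, hrp, hrq, u0, k0, hu0Z, hk0⟩ := hyp.two q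
  have hu0 := orderOf_coprime_of_pow hyp.prime hr hrp hk0
  have hrn : ∀ y : G, (orderOf y).Coprime p → y ∉ center G → ¬ r ∣ (cent y).index := fun y hy hyZ hd =>
    hrq (honly r ⟨hr, hrp, fun z hz hzZ => by rw [index_eq hyp hz hzZ hy hyZ]; exact hd⟩)
  obtain ⟨x, g, -, F⟩ := exists_frame hyp hq hu0 hu0Z
  set N0 := Cfsg.pPrimeCore q G
  haveI hN0n : N0.Normal := CfsgLib.Solvable.pPrimeCore_normal q G
  have hN0 : (Nat.card N0).Coprime q := CfsgLib.Solvable.pPrimeCore_card_coprime q G
  have hrN0 : ∀ v ∈ N0, (∃ k : ℕ, v ^ r ^ k = 1) → v ∈ center G := fun v hv hvr =>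
    mem_center_of_coprime_normal hyp hq hr hrp hrn F N0 hN0 hv hvr
  have hN0q : ∀ v ∈ N0, (∃ k : ℕ, v ^ q ^ k = 1) → v = 1 := by
    rintro v hv ⟨k, hk⟩
    have := (Nat.Coprime.coprime_dvd_left (orderOf_dvd_natCard (⟨v, hv⟩ : N0)) hN0).pow_right k
    rw [Subgroup.orderOf_mk] at this
    exact orderOf_eq_one_iff.1 (Nat.eq_one_of_dvd_coprimes this dvd_rfl (orderOf_dvd_of_pow_eq_one hk))
  -- no normal subgroup which is a `q`-group modulo `N0` outside `N0 Z(G)`
  have noY : ∀ Y : Subgroup G, Y.Normal → N0 ≤ Y → IsPGroup q (Y.map (QuotientGroup.mk' N0)) →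
      Y ≤ N0 ⊔ center G := by
    intro Y hY hN0Y hYq
    set π := QuotientGroup.mk' N0
    have hYr : ∀ v ∈ Y, (∃ k : ℕ, v ^ r ^ k = 1) → v ∈ center G := by
      rintro v hv ⟨k, hk⟩
      refine hrN0 v ?_ ⟨k, hk⟩
      obtain ⟨l, hl⟩ := hYq ⟨π v, mem_map_of_mem π hv⟩
      exact (QuotientGroup.eq_one_iff v).1 (eq_one_of_pow_pow (a := π v) hq.prime hr hrq.symm (congrArg Subtype.val hl)
        (by rw [← map_pow, hk, map_one]))
    -- outer elements meet `Y` in the part
    have hin : ∀ y : G, (orderOf y).Coprime p → y ∉ center G → ∀ a ∈ Y, (∃ k : ℕ, a ^ q ^ k = 1) →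
        a ∈ normalizer (hall p y : Set G) → a ∈ part p q y := by
      rintro y hy hyZ a ha ⟨k, hk⟩ haN
      refine mem_part_of hyp hq.prime hq.ne hy hyZ hk ?_
      by_contra hac
      obtain ⟨v, hv, hvZ⟩ := exists_mem_part hyp hr hrp ⟨u0, k0, hu0Z, hk0⟩ hy hyZ
      have hout : Out p q y a := ⟨⟨k, hk⟩, haN, hac⟩
      refine hvZ (hout.fpf hyp hq.prime hr hrq hy hyZ hv (hYr _ ?_ ?_))
      · rw [show a * v * a⁻¹ * v⁻¹ = a * (v * a⁻¹ * v⁻¹) by group]
        exact mul_mem ha (hY.conj_mem _ (inv_mem ha) v)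
      · exact (mul_mem (conj_mem_part haN hv) (inv_mem hv) : _ ∈ part p r y).2
    -- a Sylow subgroup of `Y` for each of `x`, `g`
    have hsyl : ∀ y : G, (orderOf y).Coprime p → y ∉ center G → ∀ v ∈ Y, ∃ a ∈ part p q y, a ∈ Y ∧ π a = π v := by
      intro y hy hyZ v hv
      obtain ⟨Q, -, hQN, -⟩ := exists_sylow hyp hq hy hyZ
      have hp : IsPGroup q (((Q : Subgroup G).subgroupOf Y).map ((π.comp Y.subtype).rangeRestrict)) :=
        (Q.2.comap_of_injective _ Y.subtype_injective).map _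
      have hnd : ¬ q ∣ ((Q : Subgroup G).subgroupOf Y).index := fun hd =>
        Q.not_dvd_index (hd.trans (CfsgLib.PGroup.relIndex_dvd_index_normal_right (Q : Subgroup G) Y))
      have hran : IsPGroup q (π.comp Y.subtype).range := by
        rw [MonoidHom.range_comp, Y.range_subtype]; exact hYq
      have htop : ((Q : Subgroup G).subgroupOf Y).map ((π.comp Y.subtype).rangeRestrict) = ⊤ := by
        rw [← index_eq_one]
        obtain ⟨e, he⟩ := hran.index (((Q : Subgroup G).subgroupOf Y).map ((π.comp Y.subtype).rangeRestrict))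
        rcases e with _ | e
        · simpa using he
        · exact absurd ((he ▸ dvd_pow_self q (Nat.succ_ne_zero e)).trans
            (index_map_dvd _ (π.comp Y.subtype).rangeRestrict_surjective)) hnd
      obtain ⟨a, ha, hav⟩ := mem_map.1 (htop ▸ mem_top ((π.comp Y.subtype).rangeRestrict ⟨v, hv⟩))
      obtain ⟨k, hk⟩ := Q.2 ⟨(a : G), ha⟩
      exact ⟨a, hin y hy hyZ a a.2 ⟨k, congrArg Subtype.val hk⟩ (hQN ha), a.2, congrArg Subtype.val hav⟩
    intro v hv
    obtain ⟨a, ha, haY, hav⟩ := hsyl x F.reg F.not_center v hv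
    obtain ⟨a', ha', -, hav'⟩ := hsyl g (F.out.coprime hyp hq) F.out.not_center v hv
    have haZ : a ∈ center G := by
      by_contra haZ
      have h1 : g * a * g⁻¹ * a⁻¹ ∈ N0 := by
        refine (QuotientGroup.eq_one_iff _).1 ?_
        change π (g * a * g⁻¹ * a⁻¹) = 1
        have hcm : Commute a' g := mem_cent.1 (hall_le_cent p g ha'.1)
        rw [map_mul, map_mul, map_mul, map_inv, map_inv, hav, ← hav', ← map_mul, ← hcm.eq, map_mul,
          mul_inv_cancel_right, mul_inv_cancel]
      have h2 := hN0q _ h1 (mul_mem (conj_mem_part F.out.mem ha) (inv_mem ha) : _ ∈ part p q x).2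
      rw [mul_inv_eq_one, mul_inv_eq_iff_eq_mul] at h2
      exact F.out.not_mem (mem_cent_of_commute hyp F.reg F.not_center ha.1 haZ h2)
    have h3 : v⁻¹ * a ∈ N0 := QuotientGroup.eq.1 hav.symm
    rw [show v = a * (v⁻¹ * a)⁻¹ by group]
    exact mul_mem (mem_sup_right haZ) (mem_sup_left (inv_mem h3))
  -- a minimal normal subgroup of `G / N0 Z(G)`
  set Z1 := N0 ⊔ center G
  haveI : Z1.Normal := inferInstance
  set ρ := QuotientGroup.mk' Z1
  have hgZ1 : g ∉ Z1 := by
    intro hg
    rw [← SetLike.mem_coe, mul_normal] at hg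
    obtain ⟨n, hn, z, hz, hnz⟩ := hg
    have h1 : g * x * g⁻¹ * x⁻¹ ∈ N0 := by
      rw [← hnz, show (n * z) * x * (n * z)⁻¹ * x⁻¹ = n * (z * x * z⁻¹) * n⁻¹ * x⁻¹ by group,
        ← mem_center_iff.1 hz x, mul_inv_cancel_right, mul_assoc n x, mul_assoc n]
      exact mul_mem hn (hN0n.conj_mem _ (inv_mem hn) x)
    have h2 := hN0q _ h1 (mul_mem (conj_mem_part F.out.mem F.mem_part) (inv_mem F.mem_part) : _ ∈ part p q x).2
    rw [mul_inv_eq_one, mul_inv_eq_iff_eq_mul] at h2
    exact F.out.not_mem (mem_cent.2 h2)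
  obtain ⟨Mb, ⟨hMbn, hMb1⟩, hmin⟩ := Set.Finite.exists_minimalFor id
    {L : Subgroup (G ⧸ Z1) | L.Normal ∧ L ≠ ⊥} (Set.toFinite _) ⟨⊤, inferInstance, fun e => hgZ1
      ((QuotientGroup.eq_one_iff g).1 (mem_bot.1 (e ▸ mem_top (ρ g))))⟩
  haveI := hMbn
  set M := Mb.comap ρ
  haveI : M.Normal := hMbn.comap _
  have hZ1M : Z1 ≤ M := fun z hz => by
    rw [mem_comap, QuotientGroup.mk'_apply, (QuotientGroup.eq_one_iff z).2 hz]; exact one_mem _
  have hMne : ¬ M ≤ Z1 := fun h => hMb1 (by
    rw [← map_comap_eq_self_of_surjective (QuotientGroup.mk'_surjective Z1) Mb, Subgroup.map_eq_bot_iff, QuotientGroup.ker_mk']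
    exact h)
  -- a `q`-group modulo `Z1` is one modulo `N0`
  by_cases hMq : IsPGroup q Mb
  · refine hMne (noY M inferInstance (le_sup_left.trans hZ1M) ?_)
    rintro ⟨_, v, hv, rfl⟩
    obtain ⟨k, hk⟩ := hMq ⟨ρ v, hv⟩
    have h1 : v ^ q ^ k ∈ Z1 := (QuotientGroup.eq_one_iff _).1 (by
      have := congrArg Subtype.val hk
      rw [QuotientGroup.mk_pow]
      exact this)
    rw [← SetLike.mem_coe, mul_normal] at h1
    obtain ⟨n, hn, z, hz, hnz⟩ := h1
    obtain ⟨e, m, hm, hem⟩ := Nat.exists_eq_pow_mul_and_not_dvd (orderOf_pos z).ne' q hq.prime.ne_one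
    refine ⟨k + e, Subtype.ext ?_⟩
    change (QuotientGroup.mk' N0 v) ^ q ^ (k + e) = 1
    rw [← map_pow, pow_add, pow_mul, ← hnz, QuotientGroup.mk'_apply, QuotientGroup.eq_one_iff]
    have hzq : z ^ q ^ e ∈ N0 := by
      have hord : orderOf (z ^ q ^ e) = m := by
        rw [orderOf_pow_of_dvd (pow_ne_zero e hq.prime.ne_zero) (hem ▸ dvd_mul_right _ _), hem,
          Nat.mul_div_cancel_left _ (pow_pos hq.prime.pos e)]
      haveI : (zpowers (z ^ q ^ e)).Normal := ⟨fun y hy c => by
        rw [mem_center_iff.1 ((zpowers_le.2 (pow_mem hz _)) hy) c, mul_inv_cancel_right]; exact hy⟩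
      exact CfsgLib.Solvable.le_pPrimeCore (p := q) inferInstance
        (by rw [Nat.card_zpowers, hord]; exact ((hq.prime.coprime_iff_not_dvd).2 hm).symm) (mem_zpowers _)
    rw [Commute.mul_pow (mem_center_iff.1 hz n)]
    exact mul_mem (pow_mem hn _) hzq
  by_cases hqM : q ∣ Nat.card Mb
  · obtain ⟨Q⟩ := (inferInstance : Nonempty (Sylow q G))
    set Qb := (Q : Subgroup G).map ρ
    have hQb : IsPGroup q Qb := Q.2.map ρ
    have hQbi : ¬ q ∣ Qb.index := fun hd =>
      Q.not_dvd_index (hd.trans (index_map_dvd _ (QuotientGroup.mk'_surjective Z1)))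
    have hne : Mb.subgroupOf Qb ≠ ⊥ := by
      intro hb
      have h1 : (Qb.subgroupOf Mb).index ∣ Qb.index := CfsgLib.PGroup.relIndex_dvd_index_normal_right Qb Mb
      have h2 : Qb.subgroupOf Mb = ⊥ := by
        rw [subgroupOf_eq_bot] at hb ⊢; exact hb.symm
      rw [h2, index_bot] at h1
      exact hQbi (hqM.trans h1)
    obtain ⟨⟨c, hc⟩, hcM, hcc, hord⟩ := CfsgLib.PGroup.exists_central_orderOf_eq hQb _ hne
    obtain ⟨x', hx', rfl⟩ := mem_map.1 hc
    have hx'Z1 : x' ∉ Z1 := fun h => by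
      rw [show (⟨ρ x', hc⟩ : Qb) = 1 from Subtype.ext ((QuotientGroup.eq_one_iff x').2 h), orderOf_one] at hord
      exact hq.prime.ne_one hord.symm
    have hx'Z : x' ∉ center G := fun h => hx'Z1 (mem_sup_right h)
    obtain ⟨k, hk⟩ := Q.2 ⟨x', hx'⟩
    have hx'reg := orderOf_coprime_of_pow hyp.prime hq.prime hq.ne (congrArg Subtype.val hk)
    have hQc : Qb ≤ cent (ρ x') := fun y hy =>
      mem_cent.2 (congrArg Subtype.val (mem_center_iff.1 hcc ⟨y, hy⟩))
    have hidx : ∃ e, (cent (ρ x')).index = p ^ e := by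
      have h1 : (cent (ρ x')).index ∣ (cent x').index := by
        refine (index_dvd_of_le ?_).trans (index_map_dvd _ (QuotientGroup.mk'_surjective Z1))
        rintro _ ⟨c, hc, rfl⟩
        exact mem_cent.2 ((mem_cent.1 hc).map ρ)
      refine ⟨_, Nat.eq_prime_pow_of_unique_prime_dvd index_ne_zero_of_finite fun {s} hs hsd => ?_⟩
      by_contra hsp
      have := honly s ⟨hs, hsp, fun z hz hzZ => by rw [index_eq hyp hz hzZ hx'reg hx'Z]; exact hsd.trans h1⟩
      subst this
      exact hQbi (hsd.trans (index_dvd_of_le hQc))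
    obtain ⟨e, he⟩ := hidx
    have hchar : ∀ L : Subgroup Mb, L.Characteristic → L = ⊥ ∨ L = ⊤ := by
      intro L hL
      haveI := hL
      have hn : (L.map Mb.subtype).Normal := inferInstance
      by_cases hLb : L = ⊥
      · exact Or.inl hLb
      · right
        have h1 := hmin (j := L.map Mb.subtype) ⟨hn, fun e => hLb ((map_eq_bot_iff_of_injective _
          Mb.subtype_injective).1 e)⟩ (map_subtype_le L)
        rw [eq_top_iff]
        intro v _
        obtain ⟨w, hw, hwv⟩ := mem_map.1 (h1 v.2)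
        rwa [← Subtype.ext hwv]
    have hcomm : commutator Mb = ⊥ := by
      refine (hchar _ inferInstance).resolve_right (isMulCommutative_of_prime_pow_class hchar
        (x := ⟨ρ x', mem_subgroupOf.1 hcM⟩) (fun h => hx'Z1 ((QuotientGroup.eq_one_iff x').1 (congrArg Subtype.val h)))
        hyp.prime (k := e) ?_)
      rw [← he]
      refine (dvd_of_eq ?_).trans (CfsgLib.PGroup.relIndex_dvd_index_normal_right (cent (ρ x')) Mb)
      refine congrArg Subgroup.index ?_
      ext v
      refine Iff.trans mem_cent ?_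
      change _ ↔ (v : G ⧸ Z1) ∈ cent (ρ x')
      rw [mem_cent, Commute, SemiconjBy, Commute, SemiconjBy, Subtype.ext_iff]
      rfl
    haveI hab : IsMulCommutative Mb := ⟨⟨fun a b => by
      have h := hcomm
      rw [_root_.commutator_def] at h
      exact commutatorElement_eq_one_iff_mul_comm.1
        (mem_bot.1 (h ▸ Subgroup.commutator_mem_commutator (mem_top a) (mem_top b)))⟩⟩
    obtain ⟨S⟩ := (inferInstance : Nonempty (Sylow q Mb))
    haveI : (S : Subgroup Mb).Normal := ⟨fun v hv w => by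
      rw [IsMulCommutative.is_comm.comm w v, mul_inv_cancel_right]; exact hv⟩
    haveI := S.characteristic_of_normal ‹_›
    rcases hchar (S : Subgroup Mb) inferInstance with h | h
    · exact S.ne_bot_of_dvd_card hqM h
    · exact hMq (IsPGroup.of_surjective S.2 (S : Subgroup Mb).subtype fun v => ⟨⟨v, h ▸ mem_top v⟩, rfl⟩)
  · -- a central Sylow `q`-subgroup has a normal complement
    obtain ⟨S⟩ := (inferInstance : Nonempty (Sylow q M))
    have hSZ1 : ∀ v : M, v ∈ (S : Subgroup M) → (v : G) ∈ Z1 := by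
      intro v hv
      obtain ⟨k, hk⟩ := S.2 ⟨v, hv⟩
      refine (QuotientGroup.eq_one_iff (v : G)).1 ?_
      by_contra hne
      have h1 : (⟨ρ v, v.2⟩ : Mb) ^ q ^ k = 1 := Subtype.ext (by
        have := congrArg (fun w : (S : Subgroup M) => ρ ((w : M) : G)) hk
        simpa [map_pow] using this)
      obtain ⟨i, -, hi⟩ := (Nat.dvd_prime_pow hq.prime).1 (orderOf_dvd_of_pow_eq_one h1)
      rcases i with _ | i
      · exact hne (congrArg Subtype.val (orderOf_eq_one_iff.1 (by rw [hi, pow_zero]) : (⟨ρ v, v.2⟩ : Mb) = 1))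
      · exact hqM ((dvd_pow_self q (Nat.succ_ne_zero i)).trans (hi ▸ orderOf_dvd_natCard _))
    have hScen : ∀ v : M, v ∈ (S : Subgroup M) → (v : G) ∈ center G := by
      intro v hv
      have h1 := hSZ1 v hv
      rw [← SetLike.mem_coe, mul_normal] at h1
      obtain ⟨n, hn, z, hz, hnz⟩ := h1
      obtain ⟨k, hk⟩ := S.2 ⟨v, hv⟩
      have hk' : (v : G) ^ q ^ k = 1 := congrArg (fun w : (S : Subgroup M) => ((w : M) : G)) hk
      -- `n = v z⁻¹` has a power equal to a power of `v`
      have hco : ((Nat.card N0)).Coprime (q ^ k) := hN0.pow_right k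
      obtain ⟨m, hm1, hm2⟩ : ∃ m : ℕ, m ≡ 0 [MOD Nat.card N0] ∧ m ≡ 1 [MOD q ^ k] :=
        ⟨_, (Nat.chineseRemainder hco 0 1).2⟩
      have hn1 : n ^ m = 1 := by
        obtain ⟨t, ht⟩ := Nat.modEq_zero_iff_dvd.1 hm1
        rw [ht, pow_mul, show n ^ Nat.card N0 = 1 from congrArg Subtype.val (pow_card_eq_one' (x := (⟨n, hn⟩ : N0))),
          one_pow]
      have hv1 : (v : G) ^ m = v := by
        conv_rhs => rw [← pow_one (v : G)]
        exact pow_eq_pow_iff_modEq.2 (hm2.of_dvd (orderOf_dvd_of_pow_eq_one hk'))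
      rw [← hv1, ← hnz, Commute.mul_pow (mem_center_iff.1 hz n), hn1, one_mul]
      exact pow_mem hz m
    haveI : (S : Subgroup M).Normal := ⟨fun v hv w => by
      have : w * v * w⁻¹ = v := Subtype.ext (by
        push_cast; rw [mem_center_iff.1 (hScen v hv) (w : G), mul_inv_cancel_right])
      rw [this]; exact hv⟩
    obtain ⟨K, hK⟩ := exists_right_complement'_of_coprime (N := (S : Subgroup M)) S.card_coprime_index
    have hKc : (Nat.card K).Coprime q := by
      rw [← hK.symm.index_eq_card]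
      exact ((hq.prime.coprime_iff_not_dvd).2 S.not_dvd_index).symm
    haveI hKn : K.Normal := ⟨fun v hv w => by
      obtain ⟨⟨⟨a, ha⟩, ⟨b, hb⟩⟩, rfl⟩ := hK.2 w
      have hcen : ∀ t : M, a * t = t * a := fun t => Subtype.ext (mem_center_iff.1 (hScen a ha) (t : G)).symm
      show a * b * v * (a * b)⁻¹ ∈ K
      rw [show a * b * v * (a * b)⁻¹ = a * (b * v * b⁻¹) * a⁻¹ by group, hcen, mul_inv_cancel_right]
      exact mul_mem (mul_mem hb hv) (inv_mem hb)⟩
    haveI hKchar : K.Characteristic := by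
      refine characteristic_iff_le_comap.2 fun φ v hv => ?_
      rw [mem_comap]
      change φ v ∈ K
      have hidx : K.index = Nat.card S := hK.index_eq_card
      by_contra hnot
      have h1 : orderOf ((φ v : M) : M ⧸ K) ∣ Nat.card K := by
        refine (orderOf_map_dvd (QuotientGroup.mk' K) (φ v)).trans ?_
        rw [show orderOf (φ v) = orderOf v from orderOf_injective φ.toMonoidHom φ.injective v]
        exact (Subgroup.orderOf_mk v hv).symm ▸ orderOf_dvd_natCard (⟨v, hv⟩ : K)
      have h2 : orderOf ((φ v : M) : M ⧸ K) ∣ Nat.card S := by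
        rw [← hidx, index_eq_card]; exact orderOf_dvd_natCard _
      obtain ⟨j, hj⟩ := IsPGroup.iff_card.1 S.2
      rw [hj] at h2
      exact hnot ((QuotientGroup.eq_one_iff _).1 (orderOf_eq_one_iff.1
        (Nat.eq_one_of_dvd_coprimes (hKc.pow_right j) h1 h2)))
    have hKG : (K.map M.subtype).Normal := inferInstance
    have hK0 : K.map M.subtype ≤ N0 :=
      CfsgLib.Solvable.le_pPrimeCore (p := q) hKG (by rw [card_subtype]; exact hKc)
    refine hMne fun v hv => ?_
    obtain ⟨⟨⟨a, ha⟩, ⟨b, hb⟩⟩, hab⟩ := hK.2 ⟨v, hv⟩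
    rw [show v = (a : G) * (b : G) from (congrArg Subtype.val hab).symm]
    exact mul_mem (mem_sup_right (hScen a ha)) (mem_sup_left (hK0 (mem_map_of_mem M.subtype hb)))

end CfsgLib.ClassSize.TwoRegular
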