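import Cfsg.Agent.Lib.ClassSize.TwoRegular.Hall
import Cfsg.Agent.Lib.ClassSize.TwoRegular.Norms

/-!
# Sylow subgroups for the primes dividing the class size
-/

set_option autoImplicit false

namespace CfsgLib.ClassSize.TwoRegular

open Subgroup

variable {G : Type*} [Group G] [Finite G] {p : ℕ}

/-- A prime other than `p` dividing the non-trivial `p`-regular class size. -/
structure Div (G : Type*) [Group G] (p q : ℕ) : Prop where
  prime : q.Prime
  ne : q ≠ p
  dvd : ∀ x : G, (orderOf x).Coprime p → x ∉ center G → q ∣ (cent x).index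

/-- `g` is a `q`-element outside `C(x)` normalising its Hall part. -/
structure Out (p q : ℕ) (x g : G) : Prop where
  pow : ∃ k : ℕ, g ^ q ^ k = 1
  mem : g ∈ normalizer (hall p x : Set G)
  not_mem : g ∉ cent x

theorem Out.not_center {q : ℕ} {x g : G} (h : Out p q x g) : g ∉ center G := fun hc =>
  h.not_mem (mem_cent.2 (mem_center_iff.1 hc x).symm)

theorem Out.coprime (hyp : Hyp G p) {q : ℕ} (hq : Div G p q) {x g : G} (h : Out p q x g) :
    (orderOf g).Coprime p := orderOf_coprime_of_pow hyp.prime hq.prime hq.ne h.pow.choose_spec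

/-- An element normalising `hall p x` and centralising a non-central element of it lies in `C(x)`. -/
theorem mem_cent_of_commute (hyp : Hyp G p) {x u g : G} (hx : (orderOf x).Coprime p) (hxZ : x ∉ center G)
    (hu : u ∈ hall p x) (huZ : u ∉ center G) (h : Commute g u) : g ∈ cent x := by
  rw [cent_eq_of_mem_hall hyp hx hxZ hu huZ]; exact mem_cent.2 h

/-- A `q`-element outside `C(x)` has no fixed point modulo the centre on the other parts. -/
theorem Out.fpf (hyp : Hyp G p) {q r : ℕ} (hq : q.Prime) (hr : r.Prime) (hrq : r ≠ q) {x g u : G}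
    (hx : (orderOf x).Coprime p) (hxZ : x ∉ center G) (h : Out p q x g) (hu : u ∈ part p r x)
    (hz : g * u * g⁻¹ * u⁻¹ ∈ center G) : u ∈ center G := by
  by_contra huZ
  obtain ⟨k, hk⟩ := h.pow
  set z := g * u * g⁻¹ * u⁻¹ with hzdef
  have hg : g * u * g⁻¹ = z * u := by rw [hzdef]; group
  have hzm : z ∈ part p r x := mul_mem (conj_mem_part h.mem hu) (inv_mem hu)
  obtain ⟨l, hl⟩ := hzm.2
  have h1 := conj_pow_left_central hz hg (q ^ k)
  rw [hk, one_mul, inv_one, mul_one] at h1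
  have hz1 : z = 1 := eq_one_of_pow_pow hq hr hrq.symm (mul_right_cancel (b := u) (by rw [one_mul]; exact h1.symm)) hl
  rw [hz1, one_mul, mul_inv_eq_iff_eq_mul] at hg
  exact h.not_mem (mem_cent_of_commute hyp hx hxZ hu.1 huZ hg)

omit [Finite G] in
theorem exists_prime_dvd_witness {q : ℕ} (hyp : Hyp G p) (hq : Div G p q) [Finite G] (Q : Sylow q G) :
    ∃ g ∈ (Q : Subgroup G), g ∉ center G := by
  haveI := Fact.mk hq.prime
  by_contra hno
  push Not at hno
  obtain ⟨r, hr, hrp, -, u, k, huZ, hk⟩ := hyp.two q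
  refine Q.not_dvd_index ((hq.dvd u (orderOf_coprime_of_pow hyp.prime hr hrp hk) huZ).trans (index_dvd_of_le ?_))
  exact fun g hg => mem_cent.2 (mem_center_iff.1 (hno g hg) u).symm

/-- A Sylow subgroup has no non-central element commuting with all of it. -/
theorem mem_center_of_commute_sylow (hyp : Hyp G p) {q : ℕ} (hq : Div G p q) (Q : Sylow q G) {x : G}
    (hx : x ∈ (Q : Subgroup G)) (h : ∀ g ∈ (Q : Subgroup G), Commute g x) : x ∈ center G := by
  haveI := Fact.mk hq.prime
  by_contra hxZ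
  obtain ⟨k, hk⟩ := Q.2 ⟨x, hx⟩
  exact Q.not_dvd_index ((hq.dvd x (orderOf_coprime_of_pow hyp.prime hq.prime hq.ne (congrArg Subtype.val hk))
    hxZ).trans (index_dvd_of_le fun g hg => mem_cent.2 (h g hg)))

/-- `x` is non-central, and central modulo `Z(G)` in the Sylow subgroup `Q`. -/
theorem exists_central_mod (hyp : Hyp G p) {q : ℕ} (hq : Div G p q) (Q : Sylow q G) :
    ∃ x ∈ (Q : Subgroup G), x ∉ center G ∧ ∀ g ∈ (Q : Subgroup G), g * x * g⁻¹ * x⁻¹ ∈ center G := by
  haveI := Fact.mk hq.prime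
  set π := QuotientGroup.mk' (center G)
  set Qb := (Q : Subgroup G).map π
  obtain ⟨g, hg, hgZ⟩ := exists_prime_dvd_witness hyp hq Q
  haveI : Nontrivial Qb := ⟨⟨⟨π g, mem_map_of_mem π hg⟩, 1, fun h => hgZ
    ((QuotientGroup.eq_one_iff g).1 (congrArg Subtype.val h))⟩⟩
  have hQb : IsPGroup q Qb := Q.2.map π
  haveI := hQb.center_nontrivial
  obtain ⟨⟨⟨c, hc⟩, hcc⟩, hc1⟩ := exists_ne (1 : center Qb)
  obtain ⟨x, hx, rfl⟩ := mem_map.1 hc
  refine ⟨x, hx, fun hxZ => hc1 (Subtype.ext (Subtype.ext ((QuotientGroup.eq_one_iff x).2 hxZ))), fun g hg => ?_⟩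
  have h1 : (⟨π g, mem_map_of_mem π hg⟩ : Qb) * ⟨π x, hc⟩ = ⟨π x, hc⟩ * ⟨π g, mem_map_of_mem π hg⟩ :=
    mem_center_iff.1 hcc _
  have h2 : π g * π x = π x * π g := congrArg Subtype.val h1
  rw [← QuotientGroup.eq_one_iff]
  change π (g * x * g⁻¹ * x⁻¹) = 1
  rw [map_mul, map_mul, map_mul, map_inv, map_inv, h2, mul_inv_cancel_right, mul_inv_cancel]

/-- The structure of the action of an outer element on a central-modulo-centre element. -/
theorem pow_prime_mem (hyp : Hyp G p) {q : ℕ} (hq : q.Prime) (hqp : q ≠ p) {x g : G}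
    (hxq : ∃ k : ℕ, x ^ q ^ k = 1) (hxZ : x ∉ center G) (hgq : ∃ k : ℕ, g ^ q ^ k = 1) (hg : g ∉ cent x)
    (hz : g * x * g⁻¹ * x⁻¹ ∈ center G) :
    g ^ q ∈ center G ∧ x ^ q ∈ center G ∧ (g * x * g⁻¹ * x⁻¹) ^ q = 1 := by
  set z := g * x * g⁻¹ * x⁻¹ with hzdef
  have hgx : g * x * g⁻¹ = z * x := by rw [hzdef]; group
  obtain ⟨a, ha⟩ := hxq
  obtain ⟨b, hb⟩ := hgq
  have hxreg := orderOf_coprime_of_pow hyp.prime hq hqp ha
  have hgreg := orderOf_coprime_of_pow hyp.prime hq hqp hb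
  have hgZ : g ∉ center G := fun hc => hg (mem_cent.2 (mem_center_iff.1 hc x).symm)
  have hpow : ∀ {y : G} {m : ℕ}, (orderOf y).Coprime p → (orderOf (y ^ m)).Coprime p := fun {y m} h =>
    Nat.Coprime.coprime_dvd_left (orderOf_pow_dvd m) h
  have hcpow : ∀ (y : G) (m : ℕ), cent y ≤ cent (y ^ m) := fun y m c hc => mem_cent.2 ((mem_cent.1 hc).pow_right m)
  have hfix : ∀ j : ℕ, z ^ j = 1 → g ^ j ∈ cent x ∧ Commute g (x ^ j) := fun j hj => by
    refine ⟨mem_cent.2 ?_, ?_⟩
    · have := conj_pow_left_central hz hgx j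
      rw [hj, one_mul, mul_inv_eq_iff_eq_mul] at this
      exact this
    · have := conj_pow_right_central hz hgx j
      rw [hj, one_mul, mul_inv_eq_iff_eq_mul] at this
      exact this
  have hz1 : z ≠ 1 := fun h => hg (by simpa using (hfix 1 (by simp [h])).1)
  have hzb : z ^ q ^ b = 1 := by
    have := conj_pow_left_central hz hgx (q ^ b)
    rw [hb, one_mul, inv_one, mul_one] at this
    exact mul_right_cancel (b := x) (by rw [one_mul]; exact this.symm)
  obtain ⟨e, -, he⟩ := (Nat.dvd_prime_pow hq).1 (orderOf_dvd_of_pow_eq_one hzb)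
  have hzq : z ^ q = 1 := by
    rcases Nat.lt_or_ge e 2 with he2 | he2
    · interval_cases e
      · exact absurd (orderOf_eq_one_iff.1 (by simpa using he)) hz1
      · rw [← pow_one q, ← he, pow_orderOf_eq_one]
    · exfalso
      have hne : ∀ m : ℕ, m < e → z ^ q ^ m ≠ 1 := fun m hm =>
        pow_ne_one_of_lt_orderOf (pow_ne_zero m hq.ne_zero) (he ▸ Nat.pow_lt_pow_right hq.one_lt hm)
      have hgq' : g ^ q ∉ cent x := fun h => hne 1 (by omega) (by
        have := conj_pow_left_central hz hgx q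
        rw [mem_cent.1 h |>.eq, mul_inv_cancel_right] at this
        rw [pow_one]; exact mul_right_cancel (b := x) (by rw [one_mul]; exact this.symm))
      have hgqZ : g ^ q ∉ center G := fun hc => hgq' (mem_cent.2 (mem_center_iff.1 hc x).symm)
      have hcg := cent_eq_of_le hyp hgreg (hpow hgreg) hgZ hgqZ (hcpow g q)
      set w := x ^ q ^ (e - 1) with hw
      have hzq' : (z ^ q) ^ q ^ (e - 1) = 1 := by
        rw [← pow_mul, ← pow_succ', show e - 1 + 1 = e by omega, ← he, pow_orderOf_eq_one]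
      have h1 : w ∈ cent (g ^ q) := mem_cent.2 (Commute.symm (by
        have := conj_pow_right_central (pow_mem hz q) (conj_pow_left_central hz hgx q) (q ^ (e - 1))
        rw [hzq', one_mul, mul_inv_eq_iff_eq_mul] at this
        exact this))
      rw [← hcg] at h1
      have h2 := conj_pow_right_central hz hgx (q ^ (e - 1))
      rw [← hw, ((mem_cent.1 h1).symm).eq, mul_inv_cancel_right] at h2
      exact hne (e - 1) (by omega) (mul_right_cancel (b := w) (by rw [one_mul]; exact h2.symm))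
  refine ⟨?_, ?_, hzq⟩
  · by_contra hgqZ
    have h1 := (hfix q hzq).1
    have := cent_eq_of_le hyp hgreg (hpow hgreg) hgZ hgqZ (hcpow g q)
    have h2 : cent x = cent (g ^ q) := cent_eq_of_mem_hall hyp hxreg hxZ
      (mem_hall_of_mem_cent hyp hxreg hxZ (hpow hgreg) h1) hgqZ
    exact hg (by rw [h2, ← this]; exact mem_cent.2 (Commute.refl g))
  · by_contra hxqZ
    have h1 := (hfix q hzq).2
    have := cent_eq_of_le hyp hxreg (hpow hxreg) hxZ hxqZ (hcpow x q)
    exact hg (by rw [this]; exact mem_cent.2 h1)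

omit [Finite G] in
theorem conj_central_mul {x c d z w : G} (hc : c * x * c⁻¹ = z * x) (hz : z ∈ center G)
    (hd : d * x * d⁻¹ = w * x) (hw : w ∈ center G) : c * d * x * (c * d)⁻¹ = z * w * x := by
  calc c * d * x * (c * d)⁻¹ = c * (d * x * d⁻¹) * c⁻¹ := by group
    _ = c * w * (x * c⁻¹) := by rw [hd]; group
    _ = w * c * (x * c⁻¹) := by rw [mem_center_iff.1 hw c]
    _ = w * (c * x * c⁻¹) := by group
    _ = z * w * x := by rw [hc, ← mul_assoc, mem_center_iff.1 hz w]

omit [Finite G] in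
theorem conj_central_inv {x c z : G} (hc : c * x * c⁻¹ = z * x) (hz : z ∈ center G) :
    c⁻¹ * x * c⁻¹⁻¹ = z⁻¹ * x := by
  rw [eq_inv_mul_iff_mul_eq]
  calc z * (c⁻¹ * x * c⁻¹⁻¹) = (z * c⁻¹) * x * c := by group
    _ = c⁻¹ * (z * x) * c := by rw [← mem_center_iff.1 hz c⁻¹]; group
    _ = x := by rw [← hc]; group

/-- Commutative group structure on the parts. -/
noncomputable instance partCommGroup (q : ℕ) (x : G) : CommGroup (part p q x) :=
  { (inferInstance : Group (part p q x)) with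
    mul_comm := fun a b => Subtype.ext (commute_hall a.2.1 b.2.1).eq }

theorem part_pow_mem_center (hyp : Hyp G p) {q r : ℕ} (hq : q.Prime) (hr : r.Prime) (hrq : r ≠ q) {x v : G}
    (hv : v ∈ part p r x) (hvq : v ^ q ∈ center G) : v ∈ center G := by
  obtain ⟨k, hk⟩ := hv.2
  have hco : q.Coprime (r ^ k) := Nat.Coprime.pow_right k ((Nat.coprime_primes hq hr).2 hrq.symm)
  obtain ⟨m, hm⟩ := exists_pow_eq_self_of_coprime (Nat.Coprime.coprime_dvd_right (orderOf_dvd_of_pow_eq_one hk) hco)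
  rw [← hm]; exact pow_mem hvq m

/-- A Sylow subgroup modulo the centraliser of such an element has order at most `q`. -/
theorem exists_zpow_mem (hyp : Hyp G p) {q : ℕ} (hq : Div G p q) (Q : Sylow q G) {x : G}
    (hxQ : x ∈ (Q : Subgroup G)) (hxZ : x ∉ center G)
    (hcen : ∀ g ∈ (Q : Subgroup G), g * x * g⁻¹ * x⁻¹ ∈ center G) {a b : G} (ha : a ∈ (Q : Subgroup G))
    (hb : b ∈ (Q : Subgroup G)) (hax : a ∉ cent x) : ∃ i < q, b * a ^ i ∈ cent x := by
  haveI := Fact.mk hq.prime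
  by_contra hno
  push Not at hno
  have hpow : ∀ {g : G}, g ∈ (Q : Subgroup G) → ∃ k : ℕ, g ^ q ^ k = 1 := fun {g} hg => by
    obtain ⟨k, hk⟩ := Q.2 ⟨g, hg⟩; exact ⟨k, congrArg Subtype.val hk⟩
  obtain ⟨r, hr, hrp, hrq, hu⟩ := hyp.two q
  have hxreg := orderOf_coprime_of_pow hyp.prime hq.prime hq.ne (hpow hxQ).choose_spec
  obtain ⟨u, hu, huZ⟩ := exists_mem_part hyp hr hrp hu hxreg hxZ
  have hN : ∀ {g : G}, g ∈ (Q : Subgroup G) → g ∈ normalizer (hall p x : Set G) := fun {g} hg => by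
    refine mem_normalizer_hall hyp hxreg hxZ (mem_hall_self hxreg) hxZ (mem_hall_of_mem_cent hyp hxreg hxZ ?_ ?_)
    · rw [show orderOf (g * x * g⁻¹) = orderOf x from
        orderOf_injective (MulAut.conj g).toMonoidHom (MulAut.conj g).injective x]; exact hxreg
    · refine mem_cent.2 ?_
      have e : g * x * g⁻¹ = (g * x * g⁻¹ * x⁻¹) * x := by group
      rw [e]; exact Commute.mul_left (mem_center_iff.1 (hcen g hg) x).symm (Commute.refl x)
  set V := part p r x
  let φ : (Q : Subgroup G) →* MulAut V :=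
    (normalizerMonoidHom V).comp (Subgroup.inclusion fun g hg => mem_normalizer_part (hN hg))
  have hφ : ∀ (g : (Q : Subgroup G)) (v : V), ((φ g v : V) : G) = (g : G) * v * (g : G)⁻¹ := fun g v => rfl
  have htriv : ∀ g : (Q : Subgroup G), (g : G) ∈ cent x → φ g = 1 := fun g hg => MulEquiv.ext fun v =>
    Subtype.ext (by rw [hφ, MulAut.one_apply, (mem_cent.1 (v.2.1.2.2 hg)).eq, mul_inv_cancel_right])
  have hq1 : ∀ g : (Q : Subgroup G), φ g ^ q = 1 := fun g => by
    rw [← map_pow]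
    refine htriv _ ?_
    rw [SubgroupClass.coe_pow]
    by_cases hgx : (g : G) ∈ cent x
    · exact pow_mem hgx q
    · exact mem_cent.2 (mem_center_iff.1
        (pow_prime_mem hyp hq.prime hq.ne (hpow hxQ) hxZ (hpow g.2) hgx (hcen _ g.2)).1 x).symm
  have hfix : ∀ g : (Q : Subgroup G), (g : G) ∉ cent x → ∀ v : V, φ g v = v → v ∈ (center G).subgroupOf V := by
    intro g hg v hv
    refine mem_subgroupOf.2 (Out.fpf hyp hq.prime hr hrq hxreg hxZ ⟨hpow g.2, hN g.2, hg⟩ v.2 ?_)
    rw [← hφ, hv, mul_inv_cancel]; exact one_mem _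
  have hcomm : ∀ g h : (Q : Subgroup G), Commute (φ g) (φ h) := by
    intro g h
    have h1 : (g * h * g⁻¹ * h⁻¹ : (Q : Subgroup G)).1 ∈ cent x := by
      have key : ∀ c : G, c ∈ (Q : Subgroup G) → ∃ z ∈ center G, c * x * c⁻¹ = z * x := fun c hc =>
        ⟨_, hcen c hc, by group⟩
      obtain ⟨z1, hz1, e1⟩ := key g g.2
      obtain ⟨z2, hz2, e2⟩ := key h h.2
      have := conj_central_mul (conj_central_mul (conj_central_mul e1 hz1 e2 hz2) (mul_mem hz1 hz2)
        (conj_central_inv e1 hz1) (inv_mem hz1)) (mul_mem (mul_mem hz1 hz2) (inv_mem hz1))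
        (conj_central_inv e2 hz2) (inv_mem hz2)
      rw [mem_center_iff.1 hz2 z1, mul_assoc z2 z1, mul_inv_cancel, mul_one, mul_inv_cancel, one_mul,
        mul_inv_eq_iff_eq_mul] at this
      exact mem_cent.2 this
    have h2 := htriv _ h1
    rw [map_mul, map_mul, map_mul, map_inv, map_inv, mul_inv_eq_one, mul_inv_eq_iff_eq_mul] at h2
    exact h2
  refine huZ (part_pow_mem_center hyp hq.prime hr hrq hu
    (pow_mem_of_norms ((center G).subgroupOf V) hq.prime hq.prime.pos (φ ⟨b, hb⟩) (φ ⟨a, ha⟩) ?_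
      (fun k => φ ⟨b, hb⟩ * φ ⟨a, ha⟩ ^ k) id (hq1 _)
      (fun i hi hiq => (Nat.coprime_of_lt_prime hi.ne' hiq hq.prime).symm) ?_ ?_ ?_ (hfix _ hax) ⟨u, hu⟩))
  · intro w hw
    refine mem_subgroupOf.2 ?_
    rw [hφ]
    exact (inferInstance : (center G).Normal).conj_mem _ (mem_subgroupOf.1 hw) _
  · intro k _ i _
    rw [((hcomm _ _).pow_right k).mul_pow, ← pow_mul, mul_comm k i]; rfl
  · intro k _
    rw [((hcomm _ _).pow_right k).mul_pow, hq1, ← pow_mul, mul_comm k q, pow_mul, hq1, one_pow, one_mul]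
  · intro k hk
    rw [← map_pow, ← map_mul]
    exact hfix _ (hno k hk)

end CfsgLib.ClassSize.TwoRegular
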