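import Cfsg.Agent.Lib.ClassSize.TwoRegular.OnePrime
import Cfsg.Agent.Lib.ClassSize.TwoRegular.Linear

/-!
# Outer elements of two different primes
-/

set_option autoImplicit false

namespace CfsgLib.ClassSize.TwoRegular

open Subgroup
open scoped Matrix

variable {G : Type*} [Group G] [Finite G] {p : ℕ}

omit [Finite G] in
theorem cent_conj_mem {x g c : G} (hx : (orderOf x).Coprime p) (hg : g ∈ normalizer (hall p x : Set G))
    (hc : c ∈ cent x) : g * c * g⁻¹ ∈ cent x := by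
  have h2 := (mem_cent.1 (((mem_normalizer_iff.1 (inv_mem hg) x).1 (mem_hall_self hx)).2.2 hc)).map
    (MulAut.conj g).toMonoidHom
  simpa [mem_cent, mul_assoc] using h2

/-- A prime power element normalising the Hall part is central on it for primes not dividing the class size. -/
theorem Div.of_out (hyp : Hyp G p) {u : ℕ} (hu : u.Prime) (hup : u ≠ p) {x w : G}
    (hx : (orderOf x).Coprime p) (hxZ : x ∉ center G) (h : Out p u x w) : Div G p u := by
  by_contra hnd
  have hndvd : ¬ u ∣ (cent x).index := fun hd =>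
    hnd ⟨hu, hup, fun z hz hzZ => by rw [index_eq hyp hz hzZ hx hxZ]; exact hd⟩
  haveI := Fact.mk hu
  obtain ⟨k, hk⟩ := h.pow
  obtain ⟨i, -, hi⟩ := (Nat.dvd_prime_pow hu).1 (orderOf_dvd_of_pow_eq_one hk)
  set A := part p u x
  set P := zpowers w ⊔ A
  have hP : IsPGroup u P := isPGroup_sup_part (IsPGroup.of_card (n := i) (by rw [Nat.card_zpowers, hi]))
    (zpowers_le.2 h.mem)
  have h1 : (A.subgroupOf P).index ∣ A.index := Dvd.intro _ (relIndex_mul_index (le_sup_right : A ≤ P))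
  obtain ⟨e, he⟩ := hP.index (A.subgroupOf P)
  rcases e with _ | e
  · have h2 : P ≤ A := by
      rw [pow_zero, index_eq_one] at he
      exact subgroupOf_eq_top.1 he
    exact h.not_mem (hall_le_cent p x (h2 (mem_sup_left (mem_zpowers w))).1)
  · exact not_dvd_index_part hyp hu hup hx hxZ hndvd ((he ▸ dvd_pow_self u (Nat.succ_ne_zero e)).trans h1)

/-- Outer elements of two primes commuting modulo the centraliser. -/
theorem dvd_sub_one_of_commute (hyp : Hyp G p) {q r : ℕ} (hq : Div G p q) (hr : Div G p r) (hqr : q ≠ r)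
    {x g h : G} (hx : (orderOf x).Coprime p) (hxZ : x ∉ center G) (hg : Out p q x g) (hh : Out p r x h)
    (hc : h * g * h⁻¹ * g⁻¹ ∈ cent x) : r ∣ q - 1 := by
  obtain ⟨a, ha, haZ, hz⟩ := hg.exists_fixed hyp hq hx hxZ
  obtain ⟨-, haq, -⟩ := pow_prime_mem hyp hq.prime hq.ne ha.2 haZ hg.pow
    (fun hga => hg.not_mem (mem_cent_of_commute hyp hx hxZ ha.1 haZ (mem_cent.1 hga))) hz
  have ha' : h * a * h⁻¹ ∈ part p q x := conj_mem_part hh.mem ha
  refine dvd_sub_one_of_zpowers hyp hq hr hqr hx hxZ hh ha haZ haq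
    (hg.fixed_unique hyp hq hx hxZ ha haZ hz ha' ?_)
  set c := h * g * h⁻¹ * g⁻¹ with hcdef
  set y := h * (g * a * g⁻¹) * h⁻¹ with hydef
  have hy : y ∈ part p q x := conj_mem_part hh.mem (conj_mem_part hg.mem ha)
  have hcy : Commute c y := mem_cent.1 (hy.1.2.2 hc)
  have e1 : g * (h * a * h⁻¹) * g⁻¹ = c⁻¹ * y * c := by rw [hcdef, hydef]; group
  rw [e1, hcy.inv_left.eq, mul_assoc y, inv_mul_cancel, mul_one, hydef,
    show g * a * g⁻¹ = (g * a * g⁻¹ * a⁻¹) * a by group]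
  have hzh := mem_center_iff.1 hz h
  rw [show h * ((g * a * g⁻¹ * a⁻¹) * a) * h⁻¹ * (h * a * h⁻¹)⁻¹ = h * (g * a * g⁻¹ * a⁻¹) * h⁻¹ by group,
    hzh, mul_inv_cancel_right]
  exact hz

/-- Outer elements of two primes cannot commute modulo the centraliser. -/
theorem not_commute (hyp : Hyp G p) {q r : ℕ} (hq : Div G p q) (hr : Div G p r) (hqr : q ≠ r)
    {x g h : G} (hx : (orderOf x).Coprime p) (hxZ : x ∉ center G) (hg : Out p q x g) (hh : Out p r x h) :
    g * h * g⁻¹ * h⁻¹ ∉ cent x := by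
  intro hc
  have h1 := dvd_sub_one_of_commute hyp hr hq hqr.symm hx hxZ hh hg hc
  have h2 := dvd_sub_one_of_commute hyp hq hr hqr hx hxZ hg hh (by
    have := inv_mem hc
    rwa [show (g * h * g⁻¹ * h⁻¹)⁻¹ = h * g * h⁻¹ * g⁻¹ by group] at this)
  have h3 := Nat.le_of_dvd (Nat.sub_pos_of_lt hr.prime.one_lt) h1
  have h4 := Nat.le_of_dvd (Nat.sub_pos_of_lt hq.prime.one_lt) h2
  have := hq.prime.one_lt
  omega

/-- A third non-central prime excludes an outer element normalising another modulo the centraliser. -/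
theorem not_pair (hyp : Hyp G p) {q r s : ℕ} (hq : Div G p q) (hr : Div G p r) (hqr : q ≠ r)
    (hs : s.Prime) (hsp : s ≠ p) (hsq : s ≠ q) (hsr : s ≠ r)
    (hw : ∃ (u : G) (k : ℕ), u ∉ center G ∧ u ^ s ^ k = 1)
    {x g h : G} (hx : (orderOf x).Coprime p) (hxZ : x ∉ center G) (hg : Out p q x g) (hh : Out p r x h) (μ : ℕ) :
    g * h * g⁻¹ * (h ^ μ)⁻¹ ∉ cent x := by
  intro hc
  haveI := Fact.mk hr.prime
  obtain ⟨v0, hv0, hv0Z⟩ := exists_mem_part hyp hs hsp hw hx hxZ
  set N := normalizer (hall p x : Set G)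
  set V := part p s x
  let φ : N →* MulAut V :=
    (normalizerMonoidHom V).comp (Subgroup.inclusion fun c hc => mem_normalizer_part hc)
  have hφ : ∀ (c : N) (v : V), ((φ c v : V) : G) = (c : G) * v * (c : G)⁻¹ := fun c v => rfl
  have htriv : ∀ c : N, (c : G) ∈ cent x → φ c = 1 := fun c hc => MulEquiv.ext fun v => Subtype.ext (by
    rw [hφ, MulAut.one_apply, (mem_cent.1 (v.2.1.2.2 hc)).eq, mul_inv_cancel_right])
  set T := φ ⟨g, hg.mem⟩ with hT
  set S := φ ⟨h, hh.mem⟩ with hS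
  have hfix : ∀ {t : ℕ} (c : N), t.Prime → s ≠ t → Out p t x c → ∀ v : V, φ c v = v →
      v ∈ (center G).subgroupOf V := by
    intro t c ht hst hout v hv
    refine mem_subgroupOf.2 (hout.fpf hyp ht hs hst hx hxZ v.2 ?_)
    rw [← hφ, hv, mul_inv_cancel]; exact one_mem _
  have hTq : T ^ q = 1 := by
    obtain ⟨k, hk⟩ := hg.pow
    rw [← map_pow]; exact htriv _ (pow_mem_cent hyp hq hx hxZ hk hg.mem)
  have hSr : S ^ r = 1 := by
    obtain ⟨k, hk⟩ := hh.pow
    rw [← map_pow]; exact htriv _ (pow_mem_cent hyp hr hx hxZ hk hh.mem)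
  have hS1 : S ≠ 1 := fun e => hv0Z
    (mem_subgroupOf.1 (hfix ⟨h, hh.mem⟩ hr.prime hsr hh ⟨v0, hv0⟩ (by rw [← hS, e]; rfl)))
  have hSord : orderOf S = r := orderOf_eq_prime hSr hS1
  have hTS : T * S * T⁻¹ = S ^ μ := by
    have h1 := htriv (⟨g, hg.mem⟩ * ⟨h, hh.mem⟩ * ⟨g, hg.mem⟩⁻¹ * (⟨h, hh.mem⟩ ^ μ)⁻¹) hc
    rw [map_mul, map_mul, map_mul, map_inv, map_inv, map_pow, mul_inv_eq_one] at h1
    exact h1
  have hTj : ∀ j : ℕ, T ^ j * S * (T ^ j)⁻¹ = S ^ μ ^ j := by
    intro j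
    induction j with
    | zero => simp
    | succ j ih =>
      calc T ^ (j + 1) * S * (T ^ (j + 1))⁻¹ = T * (T ^ j * S * (T ^ j)⁻¹) * T⁻¹ := by rw [pow_succ']; group
        _ = (T * S * T⁻¹) ^ μ ^ j := by rw [ih, conj_pow]
        _ = S ^ μ ^ (j + 1) := by rw [hTS, ← pow_mul, ← pow_succ']
  have hμq : (μ : ZMod r) ^ q = 1 := by
    have h1 := hTj q
    rw [hTq, one_mul, inv_one, mul_one] at h1
    have h2 : μ ^ q ≡ 1 [MOD r] := by
      rw [← hSord]; exact (pow_eq_pow_iff_modEq.1 (h1.symm.trans (pow_one S).symm))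
    have := (ZMod.natCast_eq_natCast_iff _ _ _).2 h2
    simpa using this
  have hμ1 : (μ : ZMod r) ≠ 1 := by
    intro e
    have h1 : μ ≡ 1 [MOD r] := (ZMod.natCast_eq_natCast_iff _ _ _).1 (by simpa using e)
    refine not_commute hyp hq hr hqr hx hxZ hg hh ?_
    obtain ⟨k, hk⟩ := hh.pow
    have hr' := pow_mem_cent hyp hr hx hxZ hk hh.mem
    have h2 : h ^ μ * h⁻¹ ∈ cent x := by
      rw [← Nat.mod_add_div μ r, pow_add, pow_mul,
        show μ % r = 1 from Eq.trans (h1 : μ % r = 1 % r) (Nat.mod_eq_of_lt hr.prime.one_lt), pow_one]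
      exact cent_conj_mem hx hh.mem (pow_mem hr' _)
    rw [show g * h * g⁻¹ * h⁻¹ = g * h * g⁻¹ * (h ^ μ)⁻¹ * (h ^ μ * h⁻¹) by group]
    exact mul_mem hc h2
  refine hv0Z (part_pow_mem_center hyp hr.prime hs hsr hv0 (pow_mem_of_norms ((center G).subgroupOf V) hr.prime
    hq.prime.pos T S ?_ (fun k => S ^ k * T * (S ^ k)⁻¹) (fun i => μ ^ (q - i) + (r - 1)) hSr ?_ ?_ ?_ ?_
    (hfix _ hr.prime hsr hh) ⟨v0, hv0⟩))
  · intro v hv
    refine mem_subgroupOf.2 ?_
    rw [hφ]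
    exact (inferInstance : (center G).Normal).conj_mem _ (mem_subgroupOf.1 hv) _
  · intro i hi hiq
    rw [Nat.coprime_comm, hr.prime.coprime_iff_not_dvd, ← ZMod.natCast_eq_zero_iff]
    · intro e
      push_cast [Nat.cast_sub hr.prime.one_le, ZMod.natCast_self] at e
      rw [zero_sub, add_neg_eq_zero] at e
      have h1 : orderOf (μ : ZMod r) ∣ Nat.gcd q (q - i) :=
        Nat.dvd_gcd (orderOf_dvd_of_pow_eq_one hμq) (orderOf_dvd_of_pow_eq_one e)
      rw [show Nat.gcd q (q - i) = 1 from Nat.Coprime.gcd_eq_one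
          (((hq.prime.coprime_iff_not_dvd)).2 fun hd => by
            have := Nat.le_of_dvd (by omega) hd; omega),
        Nat.dvd_one, orderOf_eq_one_iff] at h1
      exact hμ1 h1
  · intro k _ i hiq
    rw [conj_pow]
    have e : (T ^ i)⁻¹ * S ^ k * T ^ i = S ^ (μ ^ (q - i) * k) := by
      have h1 : (T ^ i)⁻¹ = T ^ (q - i) := by
        rw [inv_eq_iff_mul_eq_one, ← pow_add, Nat.add_sub_cancel' hiq.le, hTq]
      rw [h1, show T ^ i = (T ^ (q - i))⁻¹ by rw [← h1, inv_inv], ← conj_pow, hTj, ← pow_mul]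
    have e2 : (S ^ k)⁻¹ = S ^ ((r - 1) * k) := by
      rw [inv_eq_iff_mul_eq_one, ← pow_add, show k + (r - 1) * k = r * k by
        rw [Nat.sub_mul, one_mul, Nat.add_sub_cancel' (Nat.le_mul_of_pos_left k hr.prime.pos)],
        pow_mul, hSr, one_pow]
    rw [add_mul, pow_add, ← e, ← e2]
    group
  · intro k _
    rw [conj_pow, hTq, mul_one, mul_inv_cancel]
  · intro k _ v hv
    rw [hT, hS, ← map_pow, ← map_inv, ← map_mul, ← map_mul] at hv
    obtain ⟨l, hl⟩ := hg.pow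
    refine hfix _ hq.prime hsq ⟨⟨l, ?_⟩, SetLike.coe_mem _, ?_⟩ v hv
    · push_cast; rw [conj_pow, hl, mul_one, mul_inv_cancel]
    · intro hm
      push_cast at hm
      refine hg.not_mem ?_
      have := cent_conj_mem hx (inv_mem (pow_mem hh.mem k)) hm
      simpa [mul_assoc] using this

/-- A prime divisor of `q - 1` gives an outer element normalising the frame. -/
theorem exists_torus (hyp : Hyp G p) {q u : ℕ} (hq : Div G p q) (hu : u.Prime) (hup : u ≠ p) (hud : u ∣ q - 1)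
    {x g : G} (F : Frame p q x g) (hbig : Big p q x) :
    ∃ (w : G) (μ : ℕ), Out p u x w ∧ Div G p u ∧ w * g * w⁻¹ * (g ^ μ)⁻¹ ∈ cent x := by
  haveI := Fact.mk hq.prime
  haveI := Fact.mk hu
  obtain ⟨e, he⟩ := exists_prime_orderOf_dvd_card' (G := (ZMod q)ˣ) u
    (by rw [Nat.card_eq_fintype_card, ZMod.card_units]; exact hud)
  set c : ZMod q := (e : ZMod q)
  have hc0 : c ≠ 0 := e.ne_zero
  have hc1 : c ≠ 1 := fun h => hu.ne_one (by rw [← he, orderOf_eq_one_iff]; exact Units.ext h)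
  have hcu : c ^ u = 1 := by rw [← Units.val_pow_eq_pow_val, ← he, pow_orderOf_eq_one, Units.val_one]
  have hM : (!![c, 0; 0, c⁻¹] : Matrix (Fin 2) (Fin 2) (ZMod q)) ^ u = 1 := by
    have key : ∀ n : ℕ, (!![c, 0; 0, c⁻¹] : Matrix (Fin 2) (Fin 2) (ZMod q)) ^ n = !![c ^ n, 0; 0, c⁻¹ ^ n] := by
      intro n
      induction n with
      | zero => simp [Matrix.one_fin_two]
      | succ n ih => rw [pow_succ, ih]; simp [pow_succ]
    rw [key, inv_pow, hcu, inv_one, Matrix.one_fin_two]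
  obtain ⟨w, k, hk, hw⟩ := (F.realized_diag hyp hq hbig hc0).exists_primePow hu hM
  have hwx : modZ w * modZ x * (modZ w)⁻¹ = modZ x ^ c.val := by
    have := hw ![1, 0]
    rw [coord_e0] at this
    rw [this]; simp [coord, ZMod.val_zero]
  have hwg : modZ w * modZ g * (modZ w)⁻¹ = modZ g ^ (c⁻¹).val := by
    have := hw ![0, 1]
    rw [coord_e1] at this
    rw [this]; simp [coord, ZMod.val_zero]
  rw [← map_inv, ← map_mul, ← map_mul, ← map_pow] at hwx hwg
  have hwx' : w * x * w⁻¹ * (x ^ c.val)⁻¹ ∈ center G := by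
    rw [← QuotientGroup.eq_one_iff]
    change modZ (w * x * w⁻¹ * (x ^ c.val)⁻¹) = 1
    rw [map_mul, hwx, map_inv, mul_inv_cancel]
  have hmem : w * x * w⁻¹ ∈ hall p x := by
    refine mem_hall_of_mem_cent hyp F.reg F.not_center ?_ (mem_cent.2 ?_)
    · rw [show orderOf (w * x * w⁻¹) = orderOf x from
        orderOf_injective (MulAut.conj w).toMonoidHom (MulAut.conj w).injective x]; exact F.reg
    · rw [show w * x * w⁻¹ = (w * x * w⁻¹ * (x ^ c.val)⁻¹) * x ^ c.val by group]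
      exact Commute.mul_left (mem_center_iff.1 hwx' x).symm ((Commute.refl x).pow_left _)
  have hout : Out p u x w := by
    refine ⟨⟨k, hk⟩, mem_normalizer_hall hyp F.reg F.not_center (mem_hall_self F.reg) F.not_center hmem, fun hwc => ?_⟩
    rw [(mem_cent.1 hwc).eq, mul_inv_cancel_right] at hwx
    have h1 : modZ x ^ c.val = modZ x ^ (1 : ℕ) := by rw [pow_one, ← map_pow]; exact hwx.symm
    have h2 : c.val ≡ 1 [MOD q] := by
      have := pow_eq_pow_iff_modEq.1 h1
      rwa [orderOf_mk_center F.not_center F.pow_left] at this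
    exact hc1 (by rw [← ZMod.natCast_zmod_val c, (ZMod.natCast_eq_natCast_iff _ _ _).2 h2, Nat.cast_one])
  refine ⟨w, (c⁻¹).val, hout, Div.of_out hyp hu hup F.reg F.not_center hout, ?_⟩
  refine mem_cent.2 (mem_center_iff.1 ((QuotientGroup.eq_one_iff _).1 ?_) x).symm
  change modZ (w * g * w⁻¹ * (g ^ (c⁻¹).val)⁻¹) = 1
  rw [map_mul, hwg, map_inv, mul_inv_cancel]

/-- For a large part with `q ≠ 3` there is a non-central element of `3`-power order. -/
theorem exists_three (hyp : Hyp G p) {q : ℕ} (hq : Div G p q) {x g : G} (F : Frame p q x g) (hbig : Big p q x) :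
    ∃ (u : G) (k : ℕ), u ∉ center G ∧ u ^ 3 ^ k = 1 := by
  haveI := Fact.mk hq.prime
  have hM : (!![0, -1; 1, -1] : Matrix (Fin 2) (Fin 2) (ZMod q)) ^ 3 = 1 := by
    simp [pow_succ, Matrix.mul_fin_two, Matrix.one_fin_two]
  obtain ⟨w, k, hk, hw⟩ := (F.realized_three hyp hq hbig).exists_primePow Nat.prime_three hM
  refine ⟨w, k, fun hwZ => ?_, hk⟩
  have h1 := hw ![1, 0]
  rw [show modZ w = 1 from (QuotientGroup.eq_one_iff w).2 hwZ, one_mul, inv_one, mul_one, coord_e0] at h1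
  have h2 : modZ x = modZ g := by
    rw [h1]; simp [coord, ZMod.val_zero, ZMod.val_one]
  have h3 : x⁻¹ * g ∈ center G := QuotientGroup.eq.1 h2
  refine F.out.not_mem (mem_cent.2 ?_)
  have := Commute.mul_left (Commute.refl x) (mem_center_iff.1 h3 x).symm
  rwa [mul_inv_cancel_left] at this

end CfsgLib.ClassSize.TwoRegular
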