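import Mathlib
import Cfsg.Agent.Lib.FGStruct.Dedekind

/-!
# Two `p`-regular class sizes: the partition by centralisers

If all non-central `p`-regular elements have centralisers of the same order and two primes different
from `p` occur among the orders of non-central elements, then the `p`-regular elements of such a
centraliser are central in it.
-/

set_option autoImplicit false

namespace CfsgLib.ClassSize.TwoRegular

open Subgroup

variable {G : Type*} [Group G]

/-- The centraliser of an element. -/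
abbrev cent (x : G) : Subgroup G := centralizer ({x} : Set G)

theorem mem_cent {x g : G} : g ∈ cent x ↔ Commute g x := mem_centralizer_singleton_iff

theorem mem_center_iff_cent {x : G} : x ∈ center G ↔ cent x = ⊤ := by
  rw [eq_top_iff']
  simp only [mem_cent, mem_center_iff, Commute, SemiconjBy]

/-- The `p`-regular elements of `C(x)` central in `C(x)`. -/
def hall (p : ℕ) (x : G) : Subgroup G where
  carrier := {y | y ∈ cent x ∧ (orderOf y).Coprime p ∧ cent x ≤ cent y}
  one_mem' := ⟨one_mem _, by simp, fun g _ => mem_cent.2 (Commute.one_right g)⟩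
  mul_mem' := by
    rintro a b ⟨ha, ha', ha''⟩ ⟨hb, hb', hb''⟩
    refine ⟨mul_mem ha hb, ?_, fun g hg => mem_cent.2 ((mem_cent.1 (ha'' hg)).mul_right (mem_cent.1 (hb'' hg)))⟩
    exact Nat.Coprime.coprime_dvd_left (mem_cent.1 (hb'' ha)).orderOf_mul_dvd_mul_orderOf
      (Nat.Coprime.mul_left ha' hb')
  inv_mem' := by
    rintro a ⟨ha, ha', ha''⟩
    exact ⟨inv_mem ha, by rwa [orderOf_inv], fun g hg => mem_cent.2 (mem_cent.1 (ha'' hg)).inv_right⟩

theorem mem_hall {p : ℕ} {x y : G} :
    y ∈ hall p x ↔ y ∈ cent x ∧ (orderOf y).Coprime p ∧ cent x ≤ cent y := Iff.rfl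

theorem hall_le_cent (p : ℕ) (x : G) : hall p x ≤ cent x := fun _ h => h.1

theorem mem_hall_self {p : ℕ} {x : G} (hx : (orderOf x).Coprime p) : x ∈ hall p x :=
  ⟨mem_cent.2 (Commute.refl x), hx, le_rfl⟩

theorem commute_hall {p : ℕ} {x a b : G} (ha : a ∈ hall p x) (hb : b ∈ hall p x) : Commute a b :=
  mem_cent.1 (hb.2.2 ha.1)

theorem hall_eq_of_cent_eq {p : ℕ} {x y : G} (h : cent x = cent y) : hall p x = hall p y := by
  ext z; rw [mem_hall, mem_hall, h]

theorem orderOf_coprime_of_pow {p q k : ℕ} {y : G} (hp : p.Prime) (hq : q.Prime) (hqp : q ≠ p)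
    (h : y ^ q ^ k = 1) : (orderOf y).Coprime p :=
  Nat.Coprime.coprime_dvd_left (orderOf_dvd_of_pow_eq_one h)
    (Nat.Coprime.pow_left k ((Nat.coprime_primes hq hp).2 hqp))

theorem coprime_pow_pow {q r i j : ℕ} (hq : q.Prime) (hr : r.Prime) (h : q ≠ r) {a b : G}
    (ha : a ^ q ^ i = 1) (hb : b ^ r ^ j = 1) : (orderOf a).Coprime (orderOf b) :=
  Nat.Coprime.coprime_dvd_left (orderOf_dvd_of_pow_eq_one ha)
    (Nat.Coprime.coprime_dvd_right (orderOf_dvd_of_pow_eq_one hb)
      (Nat.Coprime.pow _ _ ((Nat.coprime_primes hq hr).2 h)))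

/-- An element killed by two coprime exponents is trivial. -/
theorem eq_one_of_pow_pow {q r i j : ℕ} (hq : q.Prime) (hr : r.Prime) (h : q ≠ r) {a : G}
    (ha : a ^ q ^ i = 1) (hb : a ^ r ^ j = 1) : a = 1 := by
  have := coprime_pow_pow hq hr h ha hb
  rwa [Nat.coprime_self, orderOf_eq_one_iff] at this

/-- The elements of `hall p x` of `q`-power order. -/
def part (p q : ℕ) (x : G) : Subgroup G where
  carrier := {y | y ∈ hall p x ∧ ∃ k : ℕ, y ^ q ^ k = 1}
  one_mem' := ⟨one_mem _, 0, by simp⟩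
  mul_mem' := by
    rintro a b ⟨ha, i, hi⟩ ⟨hb, j, hj⟩
    refine ⟨mul_mem ha hb, i + j, ?_⟩
    rw [(commute_hall ha hb).mul_pow]
    rw [pow_add, pow_mul, hi, one_pow, one_mul, mul_comm (q ^ i), pow_mul, hj, one_pow]
  inv_mem' := by
    rintro a ⟨ha, i, hi⟩
    exact ⟨inv_mem ha, i, by rw [inv_pow, hi, inv_one]⟩

theorem mem_part {p q : ℕ} {x y : G} :
    y ∈ part p q x ↔ y ∈ hall p x ∧ ∃ k : ℕ, y ^ q ^ k = 1 := Iff.rfl

theorem part_le_hall (p q : ℕ) (x : G) : part p q x ≤ hall p x := fun _ h => h.1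

theorem part_isPGroup (p q : ℕ) (x : G) : IsPGroup q (part p q x) := fun y => by
  obtain ⟨k, hk⟩ := y.2.2
  exact ⟨k, Subtype.ext (by rw [SubgroupClass.coe_pow]; exact hk)⟩

theorem part_eq_of_cent_eq {p : ℕ} (q : ℕ) {x y : G} (h : cent x = cent y) : part p q x = part p q y := by
  ext z; rw [mem_part, mem_part, hall_eq_of_cent_eq h]

/-- Two non-central primes and equal centraliser orders of the non-central `p`-regular elements. -/
structure Hyp (G : Type*) [Group G] (p : ℕ) : Prop where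
  prime : p.Prime
  card_eq : ∀ x y : G, (orderOf x).Coprime p → (orderOf y).Coprime p → x ∉ center G → y ∉ center G →
    Nat.card (cent x) = Nat.card (cent y)
  two : ∀ q : ℕ, ∃ r : ℕ, r.Prime ∧ r ≠ p ∧ r ≠ q ∧ ∃ (u : G) (k : ℕ), u ∉ center G ∧ u ^ r ^ k = 1

variable [Finite G] {p : ℕ}

theorem cent_eq_of_le (hyp : Hyp G p) {x y : G} (hx : (orderOf x).Coprime p) (hy : (orderOf y).Coprime p)
    (hxZ : x ∉ center G) (hyZ : y ∉ center G) (h : cent x ≤ cent y) : cent x = cent y :=
  eq_of_le_of_card_ge h (hyp.card_eq x y hx hy hxZ hyZ).ge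

theorem exists_pow_pow_of_mul_eq {x y : G} (hxy : Commute x y) (hco : (orderOf x).Coprime (orderOf y)) :
    cent (x * y) ≤ cent x ⊓ cent y := by
  intro g hg
  have hg' : Commute g (x * y) := mem_cent.1 hg
  have key : ∀ (a b : G), Commute a b → (orderOf a).Coprime (orderOf b) → Commute g (a * b) → Commute g a := by
    intro a b hab hco hg'
    obtain ⟨m, hm1, hm2⟩ : ∃ m : ℕ, m ≡ 1 [MOD orderOf a] ∧ m ≡ 0 [MOD orderOf b] :=
      ⟨_, (Nat.chineseRemainder hco 1 0).2⟩
    have e : (a * b) ^ m = a := by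
      rw [hab.mul_pow, pow_eq_pow_iff_modEq.2 hm1, pow_one, pow_eq_pow_iff_modEq.2 hm2, pow_zero, mul_one]
    rw [← e]; exact hg'.pow_right m
  exact mem_inf.2 ⟨mem_cent.2 (key x y hxy hco hg'),
    mem_cent.2 (key y x hxy.symm hco.symm (by rwa [← hxy.eq]))⟩

/-- Commuting elements of coprime order. -/
theorem cent_le_of_coprime (hyp : Hyp G p) {x y : G} (hx : (orderOf x).Coprime p) (hy : (orderOf y).Coprime p)
    (hxZ : x ∉ center G) (hxy : Commute x y) (hco : (orderOf x).Coprime (orderOf y)) :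
    cent x ≤ cent y := by
  have hle := exists_pow_pow_of_mul_eq hxy hco
  have hreg : (orderOf (x * y)).Coprime p :=
    Nat.Coprime.coprime_dvd_left hxy.orderOf_mul_dvd_mul_orderOf (Nat.Coprime.mul_left hx hy)
  have hnc : x * y ∉ center G := fun h => hxZ (by
    rw [mem_center_iff_cent] at h ⊢
    exact top_unique (h.ge.trans (hle.trans inf_le_left)))
  exact (cent_eq_of_le hyp hreg hx hnc hxZ (hle.trans inf_le_left)) ▸ hle.trans inf_le_right

/-- A non-central `p`-regular element has the centraliser of one of prime power order. -/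
theorem exists_primePart (hyp : Hyp G p) {x : G} (hx : (orderOf x).Coprime p) (hxZ : x ∉ center G) :
    ∃ (q : ℕ) (k : ℕ) (y : G), q.Prime ∧ q ≠ p ∧ y ∉ center G ∧ y ^ q ^ k = 1 ∧ cent x = cent y := by
  by_contra hno
  push Not at hno
  have hmem : x ∈ center G ⊓ zpowers x := by
    have : ∀ y : G, y ∈ zpowers x → (∃ q k : ℕ, q.Prime ∧ orderOf y = q ^ k) → y ∈ center G := by
      rintro y hy ⟨q, k, hq, hk⟩
      by_contra hyZ
      have hyreg : (orderOf y).Coprime p := Nat.Coprime.coprime_dvd_left (orderOf_dvd_of_mem_zpowers hy) hx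
      have hqp : q ≠ p := by
        rintro rfl
        rcases Nat.eq_zero_or_pos k with rfl | hk0
        · exact hyZ (by rw [pow_zero, orderOf_eq_one_iff] at hk; rw [hk]; exact one_mem _)
        · rw [hk, Nat.coprime_pow_left_iff hk0, Nat.coprime_self] at hyreg
          exact hq.ne_one hyreg
      refine hno q k y hq hqp hyZ (by rw [← hk]; exact pow_orderOf_eq_one y) ?_
      refine cent_eq_of_le hyp hx hyreg hxZ hyZ fun g hg => mem_cent.2 ?_
      obtain ⟨i, rfl⟩ := mem_zpowers_iff.1 hy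
      exact (mem_cent.1 hg).zpow_right i
    refine mem_inf.2 ⟨?_, mem_zpowers x⟩
    have h1 : (⟨x, mem_zpowers x⟩ : zpowers x) ∈ (center G).subgroupOf (zpowers x) :=
      CfsgLib.FGStruct.Dedekind.mem_of_primePow (fun y hy => mem_subgroupOf.2 (this y y.2 (by
        simpa [orderOf_coe] using hy))) _
    exact h1
  exact hxZ hmem.1

/-- Every non-central `p`-regular element commutes with a non-central element of every relevant prime. -/
theorem exists_mem_cent (hyp : Hyp G p) {r : ℕ} (hr : r.Prime) (hrp : r ≠ p)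
    (hu : ∃ (u : G) (k : ℕ), u ∉ center G ∧ u ^ r ^ k = 1) {x : G} (hx : (orderOf x).Coprime p)
    (hxZ : x ∉ center G) : ∃ (w : G) (k : ℕ), w ∈ cent x ∧ w ∉ center G ∧ w ^ r ^ k = 1 := by
  haveI := Fact.mk hr
  obtain ⟨u, k, huZ, hk⟩ := hu
  by_contra hno
  push Not at hno
  obtain ⟨S⟩ := (inferInstance : Nonempty (Sylow r (cent x)))
  set S' := (S : Subgroup (cent x)).map (cent x).subtype with hS'
  have hS'Z : S' ≤ center G := by
    rintro _ ⟨s, hs, rfl⟩
    obtain ⟨j, hj⟩ := S.2 ⟨s, hs⟩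
    by_contra hsZ
    exact hno s j s.2 hsZ (congrArg (Subtype.val) (congrArg Subtype.val hj))
  haveI : S'.Normal := ⟨fun s hs g => by
    rw [mem_center_iff.1 (hS'Z hs) g, mul_inv_cancel_right]; exact hs⟩
  have hSp : IsPGroup r S' := S.2.map _
  obtain ⟨i, -, hi⟩ := (Nat.dvd_prime_pow hr).1 (orderOf_dvd_of_pow_eq_one hk)
  have hup : IsPGroup r (zpowers u) := IsPGroup.of_card (n := i) (by rw [Nat.card_zpowers, hi])
  have hsup : IsPGroup r (S' ⊔ zpowers u : Subgroup G) := by
    exact hSp.to_sup_of_normal_left hup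
  have hle : S' ⊔ zpowers u ≤ cent u := sup_le (fun s hs => mem_cent.2 ((mem_center_iff.1 (hS'Z hs) u).symm))
    (zpowers_le.2 (mem_cent.2 (Commute.refl u)))
  have hdvd : Nat.card (S' ⊔ zpowers u : Subgroup G) ∣ Nat.card S' := by
    obtain ⟨i, hi⟩ := IsPGroup.iff_card.1 hsup
    have h1 : r ^ i ∣ Nat.card (cent u) := by rw [← hi]; exact card_dvd_of_le hle
    have hreg := orderOf_coprime_of_pow hyp.prime hr hrp hk
    rw [← hyp.card_eq x u hx hreg hxZ huZ] at h1
    rw [hi, hS', card_subtype]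
    exact S.pow_dvd_card_of_pow_dvd_card h1
  have heq : S' = S' ⊔ zpowers u :=
    eq_of_le_of_card_ge le_sup_left (Nat.le_of_dvd Nat.card_pos hdvd)
  exact huZ (hS'Z (heq ▸ mem_sup_right (mem_zpowers u)))

end CfsgLib.ClassSize.TwoRegular
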