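import Cfsg.Agent.Lib.ClassSize.TwoRegular.Outer
import Cfsg.Agent.Lib.PGroup.Basic

/-!
# Every Hall part has index `q` in a Sylow subgroup normalising it
-/

set_option autoImplicit false

namespace CfsgLib.ClassSize.TwoRegular

open Subgroup

variable {G : Type*} [Group G] [Finite G] {p : ℕ}

theorem Div.witness (hyp : Hyp G p) {q : ℕ} (hq : Div G p q) :
    ∃ (u : G) (k : ℕ), u ∉ center G ∧ u ^ q ^ k = 1 := by
  haveI := Fact.mk hq.prime
  obtain ⟨Q⟩ := (inferInstance : Nonempty (Sylow q G))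
  obtain ⟨g, hg, hgZ⟩ := exists_prime_dvd_witness hyp hq Q
  obtain ⟨k, hk⟩ := Q.2 ⟨g, hg⟩
  exact ⟨g, k, hgZ, congrArg Subtype.val hk⟩

theorem isPGroup_sup_part {q : ℕ} {x : G} {K : Subgroup G} (hK : IsPGroup q K)
    (hN : K ≤ normalizer (hall p x : Set G)) : IsPGroup q (K ⊔ part p q x : Subgroup G) :=
  hK.to_sup_of_normal_right' (part_isPGroup p q x) fun _ hg => mem_normalizer_part (hN hg)

/-- The Sylow subgroups have order `q` times that of the parts. -/
theorem card_sylow (hyp : Hyp G p) {q : ℕ} (hq : Div G p q) (Q : Sylow q G) {x : G}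
    (hx : (orderOf x).Coprime p) (hxZ : x ∉ center G) : Nat.card Q = q * Nat.card (part p q x) := by
  haveI := Fact.mk hq.prime
  obtain ⟨x0, hx0Q, hx0Z, hcen⟩ := exists_central_mod hyp hq Q
  obtain ⟨k, hk⟩ := Q.2 ⟨x0, hx0Q⟩
  have hk' : x0 ^ q ^ k = 1 := congrArg Subtype.val hk
  have hreg := orderOf_coprime_of_pow hyp.prime hq.prime hq.ne hk'
  rw [card_part_eq hyp hq.prime hq.ne hx hxZ hreg hx0Z]
  set A := part p q x0 with hA
  have hN : (Q : Subgroup G) ≤ normalizer (hall p x0 : Set G) := fun g hg => by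
    refine mem_normalizer_hall hyp hreg hx0Z (mem_hall_self hreg) hx0Z (mem_hall_of_mem_cent hyp hreg hx0Z ?_ ?_)
    · rw [show orderOf (g * x0 * g⁻¹) = orderOf x0 from
        orderOf_injective (MulAut.conj g).toMonoidHom (MulAut.conj g).injective x0]; exact hreg
    · rw [show g * x0 * g⁻¹ = (g * x0 * g⁻¹ * x0⁻¹) * x0 by group]
      exact mem_cent.2 (Commute.mul_left (mem_center_iff.1 (hcen g hg) x0).symm (Commute.refl x0))
  have hAQ : A ≤ (Q : Subgroup G) := by
    have := Q.3 (isPGroup_sup_part Q.2 hN) le_sup_left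
    exact le_sup_right.trans this.le
  obtain ⟨a, ha, hax⟩ : ∃ a ∈ (Q : Subgroup G), a ∉ cent x0 := by
    by_contra hno
    push Not at hno
    exact hx0Z (mem_center_of_commute_sylow hyp hq Q hx0Q fun g hg => mem_cent.1 (hno g hg))
  have hsurj : ∀ b : (Q : Subgroup G), ∃ f : Fin q × A, (b : G) = (f.2 : G) * (a ^ (f.1 : ℕ))⁻¹ := by
    intro b
    obtain ⟨i, hi, h⟩ := exists_zpow_mem hyp hq Q hx0Q hx0Z hcen ha b.2 hax
    obtain ⟨l, hl⟩ := Q.2 ⟨_, mul_mem b.2 (pow_mem ha i)⟩
    exact ⟨⟨⟨i, hi⟩, ⟨_, mem_part_of hyp hq.prime hq.ne hreg hx0Z (congrArg Subtype.val hl) h⟩⟩,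
      (mul_inv_cancel_right _ _).symm⟩
  choose f hf using hsurj
  have hle : Nat.card Q ≤ q * Nat.card A := by
    have h := Nat.card_le_card_of_injective f fun b c h => Subtype.ext (by rw [hf b, hf c, h])
    rwa [Nat.card_prod, Nat.card_fin] at h
  obtain ⟨i, hi⟩ := IsPGroup.iff_card.1 Q.2
  obtain ⟨j, hj⟩ := IsPGroup.iff_card.1 (part_isPGroup p q x0)
  have hlt : Nat.card A < Nat.card Q := by
    rcases (Nat.le_of_dvd Nat.card_pos (card_dvd_of_le hAQ)).lt_or_eq with h | h
    · exact h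
    · exact absurd (hall_le_cent p x0 (part_le_hall p q x0 ((eq_of_le_of_card_ge hAQ h.ge).ge ha))) hax
  rw [hi, hA, hj] at hlt hle ⊢
  have h1 : j + 1 ≤ i := (Nat.pow_lt_pow_iff_right hq.prime.one_lt).1 hlt
  refine le_antisymm hle ?_
  rw [← pow_succ']
  exact Nat.pow_le_pow_right hq.prime.pos h1

theorem card_le_of_isPGroup (hyp : Hyp G p) {q : ℕ} (hq : Div G p q) {K : Subgroup G} (hK : IsPGroup q K)
    {x : G} (hx : (orderOf x).Coprime p) (hxZ : x ∉ center G) : Nat.card K ≤ q * Nat.card (part p q x) := by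
  haveI := Fact.mk hq.prime
  obtain ⟨Q, hQ⟩ := hK.exists_le_sylow
  rw [← card_sylow hyp hq Q hx hxZ]
  exact Nat.le_of_dvd Nat.card_pos (card_dvd_of_le hQ)

/-- A Sylow subgroup containing and normalising the part. -/
theorem exists_sylow (hyp : Hyp G p) {q : ℕ} (hq : Div G p q) {x : G}
    (hx : (orderOf x).Coprime p) (hxZ : x ∉ center G) :
    ∃ Q : Sylow q G, part p q x ≤ Q ∧ (Q : Subgroup G) ≤ normalizer (hall p x : Set G) ∧
      ∃ g, g ∈ (Q : Subgroup G) ∧ Out p q x g := by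
  haveI := Fact.mk hq.prime
  obtain ⟨Q, hQ⟩ := (part_isPGroup p q x).exists_le_sylow
  have hcard := card_sylow hyp hq Q hx hxZ
  set A := part p q x
  have hidx : (A.subgroupOf (Q : Subgroup G)).index = q := by
    have h1 := (A.subgroupOf (Q : Subgroup G)).card_mul_index
    rw [Nat.card_congr (subgroupOfEquivOfLe hQ).toEquiv, hcard, mul_comm q] at h1
    exact Nat.eq_of_mul_eq_mul_left Nat.card_pos h1
  haveI hnormal : (A.subgroupOf (Q : Subgroup G)).Normal := by
    obtain ⟨i, hi⟩ := IsPGroup.iff_card.1 Q.2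
    refine normal_of_index_eq_minFac_card ?_
    rw [hidx, hi, Nat.pow_minFac, hq.prime.minFac_eq]
    rintro rfl
    rw [hcard, pow_zero, mul_eq_one] at hi
    exact hq.prime.ne_one hi.1
  obtain ⟨w, hw, hwZ⟩ := exists_mem_part hyp hq.prime hq.ne (hq.witness hyp) hx hxZ
  have hN : (Q : Subgroup G) ≤ normalizer (hall p x : Set G) := fun g hg =>
    mem_normalizer_hall hyp hx hxZ hw.1 hwZ
      (hnormal.conj_mem ⟨w, hQ hw⟩ (mem_subgroupOf.2 hw) ⟨g, hg⟩ : g * w * g⁻¹ ∈ A).1
  refine ⟨Q, hQ, hN, ?_⟩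
  by_contra hno
  push Not at hno
  have hle : (Q : Subgroup G) ≤ A := fun g hg => by
    obtain ⟨k, hk⟩ := Q.2 ⟨g, hg⟩
    have hk' : g ^ q ^ k = 1 := congrArg Subtype.val hk
    exact mem_part_of hyp hq.prime hq.ne hx hxZ hk' (by_contra fun h => hno g hg ⟨⟨k, hk'⟩, hN hg, h⟩)
  rw [le_antisymm hle hQ] at hcard
  nlinarith [Nat.card_pos (α := A), hq.prime.two_le]

/-- The `q`-th power of a `q`-element normalising the Hall part lies in the centraliser. -/
theorem pow_mem_cent (hyp : Hyp G p) {q k : ℕ} (hq : Div G p q) {x g : G}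
    (hx : (orderOf x).Coprime p) (hxZ : x ∉ center G) (hk : g ^ q ^ k = 1)
    (hg : g ∈ normalizer (hall p x : Set G)) : g ^ q ∈ cent x := by
  haveI := Fact.mk hq.prime
  obtain ⟨i, -, hi⟩ := (Nat.dvd_prime_pow hq.prime).1 (orderOf_dvd_of_pow_eq_one hk)
  set A := part p q x
  set P := zpowers g ⊔ A
  have hP : IsPGroup q P := isPGroup_sup_part (IsPGroup.of_card (n := i) (by rw [Nat.card_zpowers, hi]))
    (zpowers_le.2 hg)
  have hcard := card_le_of_isPGroup hyp hq hP hx hxZ
  haveI : (A.subgroupOf P).Normal :=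
    normal_subgroupOf_of_le_normalizer (sup_le (zpowers_le.2 (mem_normalizer_part hg)) le_normalizer)
  have h1 := (A.subgroupOf P).card_mul_index
  rw [Nat.card_congr (subgroupOfEquivOfLe (le_sup_right : A ≤ P)).toEquiv] at h1
  obtain ⟨e, he⟩ := hP.index (A.subgroupOf P)
  have he1 : e ≤ 1 := by
    rw [← Nat.pow_le_pow_iff_right hq.prime.one_lt, pow_one, ← he]
    nlinarith [Nat.card_pos (α := A)]
  have h2 := (A.subgroupOf P).pow_index_mem ⟨g, mem_sup_left (mem_zpowers g)⟩
  rw [he] at h2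
  interval_cases e
  · exact pow_mem (hall_le_cent p x (by simpa using (mem_subgroupOf.1 h2).1)) q
  · exact hall_le_cent p x (by simpa using (mem_subgroupOf.1 h2).1)

/-- An outer element has a non-central fixed point modulo the centre on its own part. -/
theorem Out.exists_fixed (hyp : Hyp G p) {q : ℕ} (hq : Div G p q) {x g : G}
    (hx : (orderOf x).Coprime p) (hxZ : x ∉ center G) (h : Out p q x g) :
    ∃ a ∈ part p q x, a ∉ center G ∧ g * a * g⁻¹ * a⁻¹ ∈ center G := by
  haveI := Fact.mk hq.prime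
  obtain ⟨k, hk⟩ := h.pow
  obtain ⟨i, -, hi⟩ := (Nat.dvd_prime_pow hq.prime).1 (orderOf_dvd_of_pow_eq_one hk)
  set A := part p q x
  set P := zpowers g ⊔ A
  set π := QuotientGroup.mk' (center G)
  have hP : IsPGroup q (P.map π) :=
    (isPGroup_sup_part (IsPGroup.of_card (n := i) (by rw [Nat.card_zpowers, hi])) (zpowers_le.2 h.mem)).map π
  haveI : ((A.map π).subgroupOf (P.map π)).Normal :=
    normal_subgroupOf_of_le_normalizer ((map_mono (sup_le (zpowers_le.2 (mem_normalizer_part h.mem)) le_normalizer)).trans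
      (le_normalizer_map π))
  obtain ⟨w, hw, hwZ⟩ := exists_mem_part hyp hq.prime hq.ne (hq.witness hyp) hx hxZ
  have hne : (A.map π).subgroupOf (P.map π) ≠ ⊥ := fun hb => hwZ ((QuotientGroup.eq_one_iff w).1 (congrArg Subtype.val
    ((mem_bot (G := P.map π)).1 (hb.le (show (⟨π w, mem_map_of_mem π (mem_sup_right hw)⟩ : P.map π) ∈
      (A.map π).subgroupOf (P.map π) from mem_subgroupOf.2 (mem_map_of_mem π hw))))))
  obtain ⟨⟨c, hc⟩, hcA, hcc, hord⟩ := CfsgLib.PGroup.exists_central_orderOf_eq hP _ hne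
  obtain ⟨a, ha, rfl⟩ := mem_map.1 (mem_subgroupOf.1 hcA)
  refine ⟨a, ha, fun haZ => ?_, ?_⟩
  · rw [show (⟨π a, hc⟩ : P.map π) = 1 from Subtype.ext ((QuotientGroup.eq_one_iff a).2 haZ), orderOf_one] at hord
    exact hq.prime.ne_one hord.symm
  · have h2 : π g * π a = π a * π g := congrArg Subtype.val
      (mem_center_iff.1 hcc ⟨π g, mem_map_of_mem π (mem_sup_left (mem_zpowers g))⟩)
    rw [← QuotientGroup.eq_one_iff]
    change π (g * a * g⁻¹ * a⁻¹) = 1
    rw [map_mul, map_mul, map_mul, map_inv, map_inv, h2, mul_inv_cancel_right, mul_inv_cancel]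

/-- An element fixed modulo the centre by an outer element normalises the Hall part of that element. -/
theorem Out.mem_normalizer (hyp : Hyp G p) {q : ℕ} (hq : Div G p q) {x g a : G} (h : Out p q x g)
    (hz : g * a * g⁻¹ * a⁻¹ ∈ center G) : a ∈ normalizer (hall p g : Set G) := by
  refine mem_normalizer_hall hyp (h.coprime hyp hq) h.not_center (mem_hall_self (h.coprime hyp hq)) h.not_center
    (mem_hall_of_mem_cent hyp (h.coprime hyp hq) h.not_center ?_ ?_)
  · rw [show orderOf (a * g * a⁻¹) = orderOf g from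
      orderOf_injective (MulAut.conj a).toMonoidHom (MulAut.conj a).injective g]; exact h.coprime hyp hq
  · rw [show a * g * a⁻¹ = (g * a * g⁻¹ * a⁻¹)⁻¹ * g by group]
    exact mem_cent.2 (Commute.mul_left (mem_center_iff.1 (inv_mem hz) g).symm (Commute.refl g))

/-- A fixed point modulo the centre is an outer element of the Hall part of the outer element. -/
theorem Out.symm (hyp : Hyp G p) {q : ℕ} (hq : Div G p q) {x g a : G} (hx : (orderOf x).Coprime p)
    (hxZ : x ∉ center G) (h : Out p q x g) (ha : a ∈ part p q x) (haZ : a ∉ center G)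
    (hz : g * a * g⁻¹ * a⁻¹ ∈ center G) : Out p q g a :=
  ⟨ha.2, h.mem_normalizer hyp hq hz,
    fun hag => h.not_mem (mem_cent_of_commute hyp hx hxZ ha.1 haZ (mem_cent.1 hag).symm)⟩

/-- The fixed points modulo the centre of an outer element form one cyclic group modulo the centre. -/
theorem Out.fixed_unique (hyp : Hyp G p) {q : ℕ} (hq : Div G p q) {x g a b : G} (hx : (orderOf x).Coprime p)
    (hxZ : x ∉ center G) (h : Out p q x g) (ha : a ∈ part p q x) (haZ : a ∉ center G)
    (haz : g * a * g⁻¹ * a⁻¹ ∈ center G) (hb : b ∈ part p q x) (hbz : g * b * g⁻¹ * b⁻¹ ∈ center G) :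
    ∃ i : ℤ, (a ^ i)⁻¹ * b ∈ center G := by
  haveI := Fact.mk hq.prime
  set A := part p q g
  set S := closure ({a, b} : Set G)
  have hab : {a, b} ⊆ (part p q x : Set G) := by
    rintro _ (rfl | rfl)
    exacts [ha, hb]
  have hSp : IsPGroup q S := (part_isPGroup p q x).to_le (closure_le _ |>.2 hab)
  have hSN : S ≤ normalizer (hall p g : Set G) := (closure_le _).2 (by
    rintro _ (rfl | rfl)
    exacts [h.mem_normalizer hyp hq haz, h.mem_normalizer hyp hq hbz])
  have hcard := card_le_of_isPGroup hyp hq (isPGroup_sup_part hSp hSN) (h.coprime hyp hq) h.not_center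
  have hSA : S ≤ normalizer (A : Set G) := fun s hs => mem_normalizer_part (hSN hs)
  have haA : a ∉ A := fun haA => (h.symm hyp hq hx hxZ ha haZ haz).not_mem (hall_le_cent p g haA.1)
  have hzA : zpowers a ≤ normalizer (A : Set G) := (zpowers_le.2 (subset_closure (Set.mem_insert a _) : a ∈ S)).trans hSA
  have hlt : A < zpowers a ⊔ A :=
    lt_of_le_of_ne le_sup_right fun e => haA (e.symm ▸ mem_sup_left (mem_zpowers a))
  have hle : zpowers a ⊔ A ≤ S ⊔ A := sup_le_sup_right (zpowers_le.2 (subset_closure (Set.mem_insert a _))) A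
  have heq : zpowers a ⊔ A = S ⊔ A := by
    refine eq_of_le_of_card_ge hle (hcard.trans ?_)
    obtain ⟨m, hm⟩ := card_dvd_of_le hlt.le
    have hm1 : q ∣ m := by
      obtain ⟨i, hi⟩ := IsPGroup.iff_card.1 ((isPGroup_sup_part hSp hSN).to_le hle)
      obtain ⟨j, -, hj⟩ := (Nat.dvd_prime_pow hq.prime).1 (hi ▸ Dvd.intro_left _ hm.symm : m ∣ q ^ i)
      rcases j with _ | j
      · exfalso
        rw [hj, pow_zero, mul_one] at hm
        exact hlt.ne (eq_of_le_of_card_ge hlt.le hm.le)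
      · exact hj ▸ dvd_pow_self q (Nat.succ_ne_zero j)
    rw [hm, mul_comm]
    exact Nat.mul_le_mul_left _ (Nat.le_of_dvd (Nat.pos_of_ne_zero fun e => by simp [e] at hm; exact Nat.card_pos.ne' hm) hm1)
  have hbm : b ∈ zpowers a ⊔ A := heq ▸ mem_sup_left (subset_closure (Set.mem_insert_of_mem a rfl))
  rw [← SetLike.mem_coe, coe_mul_of_left_le_normalizer_right _ _ hzA] at hbm
  obtain ⟨_, ⟨i, rfl⟩, c, hc, rfl⟩ := hbm
  refine ⟨i, ?_⟩
  rw [← mul_assoc, inv_mul_cancel, one_mul]
  by_contra hcZ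
  have hcx : c ∈ part p q x := by
    have := mul_mem (inv_mem (zpow_mem ha i)) hb
    rwa [inv_mul_cancel_left] at this
  exact h.not_mem (mem_cent_of_commute hyp hx hxZ hcx.1 hcZ ((mem_cent.1 (hall_le_cent p g hc.1)).symm))

end CfsgLib.ClassSize.TwoRegular
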